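import Groth.Agent.EGA43.Separating.General
import Mathlib.RingTheory.Extension.Presentation.Core

/-!
# Separation under flat base change of finite presentation (EGA IV 11.10.5)
-/

universe u v

set_option autoImplicit false
set_option backward.isDefEq.respectTransparency false

open TensorProduct Function

namespace Groth.Agent.EGA43.Separating

attribute [local instance] FlatDescent.bcModule

/-- Models of flat finitely presented algebras over Noetherian rings. -/
theorem exists_flat_fp_model (A B : Type u) [CommRing A] [CommRing B] [Algebra A B]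
    [Algebra.FinitePresentation A B] [Module.Flat A B] :
    ∃ (A₀ : Type u) (_ : CommRing A₀) (_ : IsNoetherianRing A₀) (_ : Algebra A₀ A) (B₀ : Type u) (_ : CommRing B₀)
      (_ : Algebra A₀ B₀) (_ : Algebra.FiniteType A₀ B₀) (_ : Module.Flat A₀ B₀),
      Nonempty (A ⊗[A₀] B₀ ≃ₐ[A] B) := by
  let P := Algebra.Presentation.ofFinitePresentation A B
  let C := P.Core
  have : IsNoetherianRing C := Algebra.FiniteType.isNoetherianRing ℤ C
  let M₀ := P.ModelOfHasCoeffs C
  let e := P.tensorModelOfHasCoeffsEquiv C
  have : Module.Flat A (A ⊗[C] M₀) := Module.Flat.of_linearEquiv e.toLinearEquiv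
  obtain ⟨S, hS, hflat⟩ := FlatDescent.exists_stage_flat (R := C) M₀ (M := M₀) (A := A)
  have := FlatDescent.isNoetherianRing_of_fg hS
  have : Algebra.FiniteType C M₀ := inferInstance
  exact ⟨S, inferInstance, inferInstance, inferInstance, S ⊗[C] M₀, inferInstance, inferInstance,
    Algebra.FiniteType.baseChange (A := M₀) S, hflat,
    ⟨(Algebra.TensorProduct.cancelBaseChange C S A A M₀).trans e⟩⟩

section Transfer

variable {k A C B : Type u} [CommRing k] [CommRing A] [Algebra k A] [CommRing C] [Algebra k C] [CommRing B]
  [Algebra A B] (e : A ⊗[k] C ≃ₐ[A] B)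

/-- `C ⊗ X ≅ B ⊗ X` for a model `C` of `B`. -/
noncomputable def eta (X : Type u) [AddCommGroup X] [Module k X] [Module A X] [IsScalarTower k A X] :
    C ⊗[k] X ≃+ B ⊗[A] X :=
  (gamma k C A X).trans (AlgebraTensorModule.congr e.toLinearEquiv (LinearEquiv.refl A X)).toAddEquiv

theorem eta_tmul {X : Type u} [AddCommGroup X] [Module k X] [Module A X] [IsScalarTower k A X] (c : C) (x : X) :
    eta e X (c ⊗ₜ x) = e (1 ⊗ₜ c) ⊗ₜ[A] x := by
  simp [eta, gamma_tmul]

theorem eta_smul {R X : Type u} [CommRing R] [Algebra k R] [Algebra A R] [IsScalarTower k A R] [AddCommGroup X]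
    [Module k X] [Module A X] [IsScalarTower k A X] [Module R X] [IsScalarTower k R X] [IsScalarTower A R X]
    (t : C ⊗[k] R) (x : C ⊗[k] X) : eta e X (t • x) = eta e R t • eta e X x := by
  induction x using TensorProduct.induction_on with
  | zero => simp
  | add x y hx hy => rw [smul_add, map_add, map_add, smul_add, hx, hy]
  | tmul d y =>
    induction t using TensorProduct.induction_on with
    | zero => rw [zero_smul, map_zero, map_zero, zero_smul]
    | add b b' hb hb' => rw [add_smul, map_add, hb, hb', map_add, add_smul]
    | tmul c r =>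
      rw [FlatDescent.bc_smul_tmul, eta_tmul, eta_tmul, eta_tmul, FlatDescent.bc_smul_tmul, ← map_mul,
        Algebra.TensorProduct.tmul_mul_tmul, one_mul]

/-- The ring isomorphism underlying `eta`. -/
noncomputable def etaRing (R : Type u) [CommRing R] [Algebra k R] [Algebra A R] [IsScalarTower k A R] :
    C ⊗[k] R ≃+* B ⊗[A] R :=
  { eta e R with
    map_mul' := fun s t => by
      show eta e R (s * t) = eta e R s * eta e R t
      induction t using TensorProduct.induction_on with
      | zero => simp
      | add x y hx hy => rw [mul_add, map_add, map_add, mul_add, hx, hy]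
      | tmul d y =>
        induction s using TensorProduct.induction_on with
        | zero => simp
        | add b b' hb hb' => rw [add_mul, map_add, hb, hb', map_add, add_mul]
        | tmul c r =>
          rw [Algebra.TensorProduct.tmul_mul_tmul, eta_tmul, eta_tmul, eta_tmul,
            Algebra.TensorProduct.tmul_mul_tmul, ← map_mul, Algebra.TensorProduct.tmul_mul_tmul, one_mul] }

theorem sepAt_transfer (e : A ⊗[k] C ≃ₐ[A] B) {R : Type u} [CommRing R] [Algebra k R] [Algebra A R]
    [IsScalarTower k A R] {ι : Type v} {M : Type u} [AddCommGroup M] [Module k M] [Module A M] [IsScalarTower k A M]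
    [Module R M] [IsScalarTower k R M] [IsScalarTower A R M]
    {N : ι → Type u} [∀ i, AddCommGroup (N i)] [∀ i, Module k (N i)] [∀ i, Module A (N i)]
    [∀ i, IsScalarTower k A (N i)] [∀ i, Module R (N i)] [∀ i, IsScalarTower k R (N i)]
    [∀ i, IsScalarTower A R (N i)] {u : ∀ i, M →ₗ[R] N i} (h : SepAt k u C) : SepAt A u B := by
  refine h.of_equiv (etaRing e R) (eta e M) (eta_smul e) (fun i => eta e (N i)) (fun i => eta_smul e) fun i m => ?_
  induction m using TensorProduct.induction_on with
  | zero => simp
  | add x y hx hy => simp only [map_add, hx, hy]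
  | tmul c x => simp [eta_tmul]

end Transfer

/-- Separation survives flat base change of finite presentation. -/
theorem sepAt_of_flat_fp {A R : Type u} [CommRing A] [CommRing R] [Algebra A R] {ι : Type v}
    {M : Type u} [AddCommGroup M] [Module A M] [Module R M] [IsScalarTower A R M]
    {N : ι → Type u} [∀ i, AddCommGroup (N i)] [∀ i, Module A (N i)] [∀ i, Module R (N i)]
    [∀ i, IsScalarTower A R (N i)] {u : ∀ i, M →ₗ[R] N i} (h : Sep u) (B : Type u) [CommRing B] [Algebra A B]
    [Algebra.FinitePresentation A B] [Module.Flat A B] : SepAt A u B := by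
  obtain ⟨A₀, _, _, _, B₀, _, _, _, _, ⟨e⟩⟩ := exists_flat_fp_model A B
  let _ : Algebra A₀ R := Algebra.compHom R (algebraMap A₀ A)
  have : IsScalarTower A₀ A R := .of_algebraMap_eq fun _ => rfl
  let _ : Module A₀ M := Module.compHom M (algebraMap A₀ A)
  have : IsScalarTower A₀ A M := IsScalarTower.of_algebraMap_smul fun _ _ => rfl
  let _ : ∀ i, Module A₀ (N i) := fun i => Module.compHom (N i) (algebraMap A₀ A)
  have : ∀ i, IsScalarTower A₀ A (N i) := fun i => IsScalarTower.of_algebraMap_smul fun _ _ => rfl
  have : IsScalarTower A₀ R M := IsScalarTower.of_algebraMap_smul fun x m => by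
    rw [IsScalarTower.algebraMap_apply A₀ A R, algebraMap_smul, algebraMap_smul]
  have : ∀ i, IsScalarTower A₀ R (N i) := fun i => IsScalarTower.of_algebraMap_smul fun x m => by
    rw [IsScalarTower.algebraMap_apply A₀ A R, algebraMap_smul, algebraMap_smul]
  exact sepAt_transfer e (sepAt_flat_finiteType h)

end Groth.Agent.EGA43.Separating
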