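import Groth.Agent.EGA43.GrFlat.Model
import Mathlib.RingTheory.TensorProduct.DirectLimitFG
import Mathlib.LinearAlgebra.TensorProduct.Basis

/-!
# Separating families of linear maps (EGA IV 11.9, 11.10)
-/

universe u v

set_option autoImplicit false
set_option backward.isDefEq.respectTransparency false

open TensorProduct Function

namespace Groth.Agent.EGA43.Separating

attribute [local instance] FlatDescent.bcModule

/-- A family is separating on every basic open. -/
def Sep {R : Type u} [CommRing R] {ι : Type v} {M : Type u} [AddCommGroup M] [Module R M] {N : ι → Type u}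
    [∀ i, AddCommGroup (N i)] [∀ i, Module R (N i)] (u : ∀ i, M →ₗ[R] N i) : Prop :=
  ∀ (a : R) (m : M), (∀ i, ∃ n : ℕ, a ^ n • u i m = 0) → ∃ n : ℕ, a ^ n • m = 0

/-- Separation is invariant under semilinear equivalences. -/
theorem Sep.of_equiv {R R' : Type u} [CommRing R] [CommRing R'] (σ : R ≃+* R') {ι : Type v}
    {M M' : Type u} [AddCommGroup M] [Module R M] [AddCommGroup M'] [Module R' M']
    {N N' : ι → Type u} [∀ i, AddCommGroup (N i)] [∀ i, Module R (N i)] [∀ i, AddCommGroup (N' i)]
    [∀ i, Module R' (N' i)] {u : ∀ i, M →ₗ[R] N i} {u' : ∀ i, M' →ₗ[R'] N' i}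
    (e : M ≃+ M') (he : ∀ r m, e (r • m) = σ r • e m) (f : ∀ i, N i ≃+ N' i)
    (hf : ∀ i r y, f i (r • y) = σ r • f i y) (hu : ∀ i m, f i (u i m) = u' i (e m)) (h : Sep u) : Sep u' := by
  intro a' m' hm
  obtain ⟨a, rfl⟩ := σ.surjective a'
  obtain ⟨m, rfl⟩ := e.surjective m'
  obtain ⟨n, hn⟩ := h a m fun i => (hm i).imp fun n hn => (f i).injective (by
    rw [hf, map_pow, hu, hn, map_zero])
  exact ⟨n, by rw [← map_pow, ← he, hn, map_zero]⟩

variable (A : Type u) [CommRing A] {R : Type u} [CommRing R] [Algebra A R] {ι : Type v}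
  {M : Type u} [AddCommGroup M] [Module A M] [Module R M] [IsScalarTower A R M]
  {N : ι → Type u} [∀ i, AddCommGroup (N i)] [∀ i, Module A (N i)] [∀ i, Module R (N i)]
  [∀ i, IsScalarTower A R (N i)] (u : ∀ i, M →ₗ[R] N i)

/-- Separation after base change to `B`. -/
def SepAt (B : Type u) [CommRing B] [Algebra A B] : Prop :=
  Sep (R := B ⊗[A] R) (M := B ⊗[A] M) (N := fun i => B ⊗[A] N i) fun i => InjFibre.bcMap A B (u i)

variable {A u}

theorem map_pow_smul {B B' : Type u} [CommRing B] [Algebra A B] [CommRing B'] [Algebra A B'] (j : B →ₐ[A] B')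
    {X : Type u} [AddCommGroup X] [Module A X] [Module R X] [IsScalarTower A R X] (n : ℕ) (a : B ⊗[A] R)
    (x : B ⊗[A] X) :
    j.toLinearMap.rTensor X (a ^ n • x) =
      (Algebra.TensorProduct.map j (AlgHom.id A R) a) ^ n • j.toLinearMap.rTensor X x := by
  rw [InjFibre.map_smul_rTensor, map_pow]

/-- Separation passes to algebras all of whose finitely generated subalgebras have it. -/
theorem sepAt_of_fg [∀ i, Module.Flat A (N i)] {B : Type u} [CommRing B] [Algebra A B]
    (h : ∀ S : Subalgebra A B, S.FG → SepAt A u S) : SepAt A u B := by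
  classical
  intro a z hz
  obtain ⟨S₁, hS₁, a₁, ha₁⟩ := TensorProduct.Algebra.exists_of_fg a
  obtain ⟨S₂, hS₂, z₂, hz₂⟩ := TensorProduct.Algebra.exists_of_fg z
  let S := S₁ ⊔ S₂
  let a₀ : S ⊗[A] R := (Subalgebra.inclusion (le_sup_left : S₁ ≤ S)).toLinearMap.rTensor R a₁
  let z₀ : S ⊗[A] M := (Subalgebra.inclusion (le_sup_right : S₂ ≤ S)).toLinearMap.rTensor M z₂
  have ha : Algebra.TensorProduct.map S.val (AlgHom.id A R) a₀ = a := by
    rw [← ha₁]
    simp only [a₀]
    clear a₀ ha₁
    induction a₁ using TensorProduct.induction_on with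
    | zero => simp
    | add x y hx hy => simp only [map_add, hx, hy]
    | tmul x y => rfl
  have hz0 : S.val.toLinearMap.rTensor M z₀ = z := by
    rw [← hz₂, ← LinearMap.rTensor_comp_apply]
    rfl
  obtain ⟨n, hn⟩ := h S (hS₁.sup hS₂) a₀ z₀ fun i => by
    obtain ⟨n, hn⟩ := hz i
    refine ⟨n, Module.Flat.rTensor_preserves_injective_linearMap (M := N i) S.val.toLinearMap
      Subtype.val_injective ?_⟩
    rw [map_pow_smul, ha, ← InjFibre.bcMap_rTensor, hz0, hn, map_zero]
  refine ⟨n, ?_⟩
  rw [← ha, ← hz0, ← map_pow_smul, hn, map_zero]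

section Coord

variable {K : Type u} [CommRing K] [Algebra A K] {P : Type u} [AddCommGroup P] [Module A P]
  {κ : Type*} [DecidableEq κ] (b : Module.Basis κ K (K ⊗[A] P))

/-- Coordinates of `K ⊗ (P ⊗ X)` along a basis of `K ⊗ P`. -/
noncomputable def coord (X : Type u) [AddCommGroup X] [Module A X] :
    K ⊗[A] (P ⊗[A] X) ≃ₗ[K] κ →₀ (K ⊗[A] X) :=
  AlgebraTensorModule.distribBaseChange A K P X ≪≫ₗ TensorProduct.equivFinsuppOfBasisLeft b

theorem coord_natural {X Y : Type u} [AddCommGroup X] [Module A X] [AddCommGroup Y] [Module A Y]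
    (g : X →ₗ[A] Y) (z : K ⊗[A] (P ⊗[A] X)) (j : κ) :
    coord b Y ((g.lTensor P).lTensor K z) j = g.lTensor K (coord b X z j) := by
  have h1 : AlgebraTensorModule.distribBaseChange A K P Y ((g.lTensor P).lTensor K z) =
      (g.baseChange K).lTensor (K ⊗[A] P) (AlgebraTensorModule.distribBaseChange A K P X z) := by
    induction z using TensorProduct.induction_on with
    | zero => simp
    | add a b ha hb => simp only [map_add, ha, hb]
    | tmul c w =>
      induction w using TensorProduct.induction_on with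
      | zero => simp
      | add a b ha hb => simp only [tmul_add, map_add, ha, hb]
      | tmul p x => simp
  simp only [coord, LinearEquiv.trans_apply]
  rw [h1]
  generalize AlgebraTensorModule.distribBaseChange A K P X z = w
  induction w using TensorProduct.induction_on with
  | zero => simp
  | add a b ha hb => simp only [map_add, Finsupp.add_apply, ha, hb]
  | tmul q y =>
    rw [LinearMap.lTensor_tmul, TensorProduct.equivFinsuppOfBasisLeft_apply_tmul_apply,
      TensorProduct.equivFinsuppOfBasisLeft_apply_tmul_apply, ← LinearMap.baseChange_eq_ltensor, map_smul]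

end Coord

end Groth.Agent.EGA43.Separating
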