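import Groth.Agent.EGA43.Separating.Basic
import Groth.Agent.EGA43.GenFree
import Mathlib.RingTheory.Localization.BaseChange
import Mathlib.RingTheory.Flat.Basic
import Mathlib.RingTheory.Ideal.Quotient.Noetherian

/-!
# Separation is stable under finite type base change over a field (EGA IV 11.9.10)
-/

universe u v

set_option autoImplicit false
set_option backward.isDefEq.respectTransparency false

open TensorProduct Function

namespace Groth.Agent.EGA43.Separating

attribute [local instance] FlatDescent.bcModule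

/-- A torsion-free multiple with prime annihilator. -/
theorem exists_prime_multiple {R M : Type u} [CommRing R] [IsNoetherianRing R] [AddCommGroup M] [Module R M]
    (a : R) (z : M) (hz : ∀ n : ℕ, a ^ n • z ≠ 0) :
    ∃ (t : R) (Q : Ideal R), Q.IsPrime ∧ (∀ x, x ∈ Q ↔ x • (t • z) = 0) ∧ ∀ n : ℕ, a ^ n • (t • z) ≠ 0 := by
  classical
  let tor : R → Ideal R := fun t =>
    { carrier := {x | ∃ n : ℕ, a ^ n • x • t • z = 0}
      zero_mem' := ⟨0, by simp⟩
      add_mem' := by
        rintro x y ⟨n, hn⟩ ⟨m, hm⟩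
        refine ⟨n + m, ?_⟩
        rw [add_smul, smul_add, pow_add]
        nth_rw 1 [mul_comm (a ^ n)]
        rw [mul_smul, hn, smul_zero, mul_smul, hm, smul_zero, add_zero]
      smul_mem' := by
        rintro c x ⟨n, hn⟩
        exact ⟨n, by rw [smul_eq_mul, mul_smul, smul_comm, hn, smul_zero]⟩ }
  let 𝒮 : Set (Ideal R) := tor '' {t | ∀ n : ℕ, a ^ n • t • z ≠ 0}
  obtain ⟨_, ⟨t, ht, rfl⟩, hmax⟩ := set_has_maximal_iff_noetherian.2 (inferInstance : IsNoetherian R R) 𝒮
    ⟨_, 1, (fun n => by rw [one_smul]; exact hz n), rfl⟩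
  have hprime : (tor t).IsPrime := by
    refine ⟨fun h => ?_, fun {x y} hxy => ?_⟩
    · obtain ⟨n, hn⟩ : (1 : R) ∈ tor t := h ▸ Submodule.mem_top
      exact ht n (by rwa [one_smul] at hn)
    · by_contra! hcon
      obtain ⟨hx, hy⟩ := hcon
      have hyt : (y * t) ∈ {t | ∀ n : ℕ, a ^ n • t • z ≠ 0} := fun n hn => hy ⟨n, by rwa [← mul_smul y]⟩
      have hle : tor t ≤ tor (y * t) := fun c ⟨n, hn⟩ => ⟨n, by rw [mul_smul, smul_comm c y, smul_comm _ y, hn, smul_zero]⟩
      have heq : tor (y * t) = tor t := by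
        by_contra hne
        exact hmax _ ⟨_, hyt, rfl⟩ (lt_of_le_of_ne hle (Ne.symm hne))
      obtain ⟨n, hn⟩ := hxy
      exact hx (heq ▸ ⟨n, by rwa [mul_smul y, ← mul_smul x y]⟩)
  obtain ⟨s, hs⟩ := (IsNoetherian.noetherian (tor t) : (tor t).FG)
  have hs' : ∀ x ∈ s, ∃ n : ℕ, a ^ n • x • t • z = 0 := fun x hx => by
    have : x ∈ tor t := hs ▸ Submodule.subset_span hx
    exact this
  choose! nx hnx using hs'
  let L := s.sup nx
  refine ⟨a ^ L * t, tor t, hprime, fun x => ⟨fun hx => ?_, fun hx => ?_⟩, fun n hn => ?_⟩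
  · rw [mul_smul, smul_comm]
    rw [← hs] at hx
    induction hx using Submodule.span_induction with
    | mem x hx =>
      obtain ⟨c, hc⟩ := Nat.exists_eq_add_of_le (Finset.le_sup hx : nx x ≤ L)
      rw [show L = c + nx x by omega, pow_add, mul_smul, hnx x hx, smul_zero]
    | zero => rw [zero_smul, smul_zero]
    | add x y _ _ hx hy => rw [add_smul, smul_add, hx, hy, add_zero]
    | smul c x _ hx => rw [smul_eq_mul, mul_smul, smul_comm, hx, smul_zero]
  · exact ⟨L, by rwa [mul_smul, smul_comm] at hx⟩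
  · exact ht (n + L) (by rwa [pow_add, mul_smul, ← mul_smul (a ^ L)])

variable {k : Type u} [CommRing k] {C : Type u} [CommRing C] [Algebra k C]

section Gamma

variable (k C) (D : Type u) [CommRing D] [Algebra k D] (X : Type u) [AddCommGroup X] [Module k X] [Module D X]
  [IsScalarTower k D X]

/-- `C ⊗ X ≅ (D ⊗ C) ⊗_D X`. -/
noncomputable def gamma : C ⊗[k] X ≃+ (D ⊗[k] C) ⊗[D] X :=
  ((TensorProduct.comm k C X).toAddEquiv.trans
    (AlgebraTensorModule.cancelBaseChange k D D X C).symm.toAddEquiv).trans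
    (TensorProduct.comm D X (D ⊗[k] C)).toAddEquiv

theorem gamma_tmul (c : C) (x : X) : gamma k C D X (c ⊗ₜ x) = ((1 : D) ⊗ₜ[k] c) ⊗ₜ[D] x := by
  simp [gamma]

end Gamma

variable {R : Type u} [CommRing R] [Algebra k R] {ι : Type v}
  {M : Type u} [AddCommGroup M] [Module k M] [Module R M] [IsScalarTower k R M]
  {N : ι → Type u} [∀ i, AddCommGroup (N i)] [∀ i, Module k (N i)] [∀ i, Module R (N i)]
  [∀ i, IsScalarTower k R (N i)] {u : ∀ i, M →ₗ[R] N i}

theorem gamma_smul {p : Ideal R} {X : Type u} [AddCommGroup X] [Module k X] [Module R X] [IsScalarTower k R X]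
    [Module (R ⧸ p) X] [IsScalarTower k (R ⧸ p) X] [IsScalarTower R (R ⧸ p) X]
    (t : C ⊗[k] R) (z : C ⊗[k] X) :
    gamma k C (R ⧸ p) X (t • z) =
      (LinearMap.mulLeft (R ⧸ p) (Algebra.TensorProduct.map (Ideal.Quotient.mkₐ k p) (AlgHom.id k C)
        (Algebra.TensorProduct.comm k C R t))).rTensor X (gamma k C (R ⧸ p) X z) := by
  induction z using TensorProduct.induction_on with
  | zero => simp
  | add a b ha hb => rw [smul_add, map_add, map_add, map_add, ha, hb]
  | tmul d x =>
    induction t using TensorProduct.induction_on with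
    | zero => simp
    | add a b ha hb =>
      rw [add_smul, map_add, ha, hb]
      simp only [map_add, gamma_tmul, LinearMap.rTensor_tmul, LinearMap.mulLeft_apply, add_mul, add_tmul]
    | tmul c r =>
      rw [FlatDescent.bc_smul_tmul, gamma_tmul, gamma_tmul, LinearMap.rTensor_tmul, LinearMap.mulLeft_apply,
        Algebra.TensorProduct.comm_tmul, Algebra.TensorProduct.map_tmul, Algebra.TensorProduct.tmul_mul_tmul,
        AlgHom.id_apply, mul_one, Ideal.Quotient.mkₐ_eq_mk]
      rw [show (Ideal.Quotient.mk p r) ⊗ₜ[k] (c * d) = (Ideal.Quotient.mk p r) • ((1 : R ⧸ p) ⊗ₜ[k] (c * d)) by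
        rw [TensorProduct.smul_tmul', smul_eq_mul, mul_one], TensorProduct.smul_tmul,
        ← Ideal.Quotient.algebraMap_eq, algebraMap_smul]

/-- Separation survives a flat base change of finite type. -/
theorem sepAt_finiteType [IsNoetherianRing R] [Algebra.FiniteType k C] [Module.Flat k C] (h : Sep u) : SepAt k u C := by
  classical
  have : IsNoetherianRing (C ⊗[k] R) := by
    have : Algebra.FiniteType R (R ⊗[k] C) := Algebra.FiniteType.baseChange (A := C) R
    have : IsNoetherianRing (R ⊗[k] C) := Algebra.FiniteType.isNoetherianRing R _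
    exact isNoetherianRing_of_ringEquiv _ (Algebra.TensorProduct.comm k R C).toRingEquiv
  intro a z hz
  by_contra hne
  push Not at hne
  obtain ⟨t, Q, hQ, hQz, htz⟩ := exists_prime_multiple a z hne
  let w := t • z
  have haQ : a ∉ Q := fun h => htz 1 (by rw [pow_one]; exact (hQz a).1 h)
  have hw : ∀ i, ∃ n : ℕ, a ^ n • InjFibre.bcMap k C (u i) w = 0 := fun i => (hz i).imp fun n hn => by
    show a ^ n • InjFibre.bcMap k C (u i) (t • z) = 0
    rw [map_smul, smul_comm, hn, smul_zero]
  let inc : R →ₐ[k] C ⊗[k] R := Algebra.TensorProduct.includeRight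
  let p : Ideal R := Q.comap inc
  have : p.IsPrime := Ideal.comap_isPrime inc Q
  let R' := R ⧸ p
  let tor : ∀ (X : Type u) [AddCommGroup X] [Module R X], Submodule R X := fun X _ _ =>
    Submodule.torsionBySet R X p
  let sub : ∀ (X : Type u) [AddCommGroup X] [Module R X] [Module k X] [IsScalarTower k R X],
      tor X →ₗ[k] X := fun X _ _ _ _ => (tor X).subtype.restrictScalars k
  obtain ⟨w₁, hw₁⟩ : ∃ w₁, (sub M).lTensor C w₁ = w := by
    obtain ⟨s, hs⟩ := (IsNoetherian.noetherian p : p.FG)
    let g : M →ₗ[R] (s → M) := LinearMap.pi fun j => (LinearMap.lsmul R M (j : R))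
    have hker : LinearMap.ker g = tor M := by
      ext x
      simp only [LinearMap.mem_ker, g, funext_iff, LinearMap.pi_apply, LinearMap.lsmul_apply, Pi.zero_apply,
        tor, Submodule.mem_torsionBySet_iff]
      refine ⟨fun hx ⟨c, hc⟩ => ?_, fun hx j => hx ⟨j, hs ▸ Submodule.subset_span j.2⟩⟩
      show c • x = 0
      rw [SetLike.mem_coe, ← hs] at hc
      induction hc using Submodule.span_induction with
      | mem c hc => exact hx ⟨c, hc⟩
      | zero => rw [zero_smul]
      | add a b _ _ ha hb => rw [add_smul, ha, hb, add_zero]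
      | smul a b _ hb => rw [smul_eq_mul, mul_smul, hb, smul_zero]
    have hex : Exact (sub M) (g.restrictScalars k) := fun x => by
      show g x = 0 ↔ _
      rw [← LinearMap.mem_ker, hker]
      exact ⟨fun hx => ⟨⟨x, hx⟩, rfl⟩, fun ⟨y, hy⟩ => hy ▸ y.2⟩
    refine ((Module.Flat.lTensor_exact C hex) w).1 ?_
    apply (TensorProduct.piRight k k C (fun _ : s => M)).injective
    rw [map_zero]
    funext j
    have hj : inc (j : R) • w = 0 := (hQz _).1 (hs ▸ Submodule.subset_span j.2 : (j : R) ∈ p)
    rw [Pi.zero_apply, ← hj]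
    generalize w = y
    induction y using TensorProduct.induction_on with
    | zero => simp
    | add x y hx hy => rw [map_add, map_add, Pi.add_apply, hx, hy, smul_add]
    | tmul c x =>
      simp [inc, g, FlatDescent.bc_smul_tmul]
  let u₁ : ∀ i, tor M →ₗ[R] tor (N i) := fun i => LinearMap.codRestrict _ (u i ∘ₗ (tor M).subtype) fun x =>
    (Submodule.mem_torsionBySet_iff _ _).2 fun c => by
      show (c : R) • u i (x : M) = 0
      rw [← map_smul, (Submodule.mem_torsionBySet_iff _ _).1 x.2 c, map_zero]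
  have : ∀ (X : Type u) [AddCommGroup X] [Module R X] [Module k X] [IsScalarTower k R X],
      IsScalarTower k R' (tor X) := fun X _ _ _ _ => ⟨fun c r x => by
    obtain ⟨r, rfl⟩ := Ideal.Quotient.mk_surjective r
    exact Subtype.ext (smul_assoc c r (x : X))⟩
  have : ∀ (X : Type u) [AddCommGroup X] [Module R X], IsScalarTower R R' (tor X) := fun X _ _ => ⟨fun c r x => by
    obtain ⟨r, rfl⟩ := Ideal.Quotient.mk_surjective r
    exact Subtype.ext (smul_assoc c r (x : X))⟩
  have hw₁u : ∀ i, ∃ n : ℕ, a ^ n • ((u₁ i).restrictScalars k).lTensor C w₁ = 0 := fun i => by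
    obtain ⟨n, hn⟩ := hw i
    refine ⟨n, Module.Flat.lTensor_preserves_injective_linearMap (sub (N i)) Subtype.val_injective ?_⟩
    rw [map_zero, ← hn, ← hw₁]
    generalize w₁ = y
    generalize a ^ n = b
    induction y using TensorProduct.induction_on with
    | zero => simp
    | add x y hx hy => simp only [map_add, smul_add, hx, hy]
    | tmul c x =>
      induction b using TensorProduct.induction_on with
      | zero => simp
      | add b b' hb hb' => simp only [add_smul, map_add, hb, hb']
      | tmul d r => rfl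
  let B := R' ⊗[k] C
  have : Algebra.FiniteType R' B := Algebra.FiniteType.baseChange (A := C) R'
  let σ := (Algebra.TensorProduct.map (Ideal.Quotient.mkₐ k p) (AlgHom.id k C)).comp
    (Algebra.TensorProduct.comm k C R).toAlgHom
  let ab : B := σ a
  let F := Localization.Away ab
  have : Algebra.FiniteType B F := IsLocalization.finiteType_of_monoid_fg (Submonoid.powers ab) F
  have : Algebra.FiniteType R' F := Algebra.FiniteType.trans ‹_› ‹Algebra.FiniteType B F›
  obtain ⟨c, hc, hfree⟩ := GenFree.gFree (R := R') (S := F) F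
  let K := Localization.Away c
  let b := Module.Free.chooseBasis K (K ⊗[R'] F)
  let loc : B →ₗ[R'] F := (IsScalarTower.toAlgHom R' B F).toLinearMap
  obtain ⟨c, rfl⟩ := Ideal.Quotient.mk_surjective c
  let Θ : ∀ (X : Type u) [AddCommGroup X] [Module k X] [Module R' X] [IsScalarTower k R' X],
      C ⊗[k] X → F ⊗[R'] X := fun X _ _ _ _ y => loc.rTensor X (gamma k C R' X y)
  have hΘsmul : ∀ (X : Type u) [AddCommGroup X] [Module k X] [Module R X] [IsScalarTower k R X] [Module R' X]
      [IsScalarTower k R' X] [IsScalarTower R R' X] (t : C ⊗[k] R) (y : C ⊗[k] X),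
      Θ X (t • y) = (LinearMap.mulLeft R' (algebraMap B F (σ t))).rTensor X (Θ X y) := fun X _ _ _ _ _ _ _ t y => by
    simp only [Θ]
    rw [gamma_smul, ← LinearMap.rTensor_comp_apply, ← LinearMap.rTensor_comp_apply]
    congr 2
    exact LinearMap.ext fun x => map_mul (algebraMap B F) _ x
  have hΘzero : (1 : K) ⊗ₜ[R'] Θ (tor M) w₁ = 0 := by
    apply (coord b (tor M)).injective
    rw [map_zero]
    ext j
    rw [Finsupp.coe_zero, Pi.zero_apply]
    set y := coord b (tor M) ((1 : K) ⊗ₜ Θ (tor M) w₁) j with hy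
    obtain ⟨⟨x, e⟩, hxe⟩ := IsLocalizedModule.surj (Submonoid.powers (Ideal.Quotient.mk p c)) (TensorProduct.mk R' K (tor M) 1) y
    have hux : ∀ i, ∃ n : ℕ, c ^ n • u i (x : M) = 0 := fun i => by
      have hΘu : Θ (tor (N i)) (((u₁ i).restrictScalars k).lTensor C w₁) = 0 := by
        obtain ⟨n, hn⟩ := hw₁u i
        have h1 := congrArg (Θ (tor (N i))) hn
        rw [hΘsmul, show Θ (tor (N i)) 0 = 0 by simp [Θ], map_pow, map_pow] at h1
        have hu : IsUnit (algebraMap B F ab ^ n) := (IsLocalization.Away.algebraMap_isUnit ab).pow n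
        obtain ⟨v, hv⟩ := hu.exists_left_inv
        have h2 := congrArg ((LinearMap.mulLeft R' v).rTensor (tor (N i))) h1
        rw [map_zero, ← LinearMap.rTensor_comp_apply] at h2
        rw [← h2, show LinearMap.mulLeft R' v ∘ₗ LinearMap.mulLeft R' (algebraMap B F ab ^ n) = LinearMap.id from
          LinearMap.ext fun x => by simp [← mul_assoc, hv], LinearMap.rTensor_id, LinearMap.id_apply]
      let u' : tor M →ₗ[R'] tor (N i) :=
        { toFun := u₁ i, map_add' := map_add _,
          map_smul' := fun r x => by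
            obtain ⟨r, rfl⟩ := Ideal.Quotient.mk_surjective r
            exact (u₁ i).map_smul r x }
      have hnat : u'.lTensor F (Θ (tor M) w₁) = Θ (tor (N i)) (((u₁ i).restrictScalars k).lTensor C w₁) := by
        generalize w₁ = y
        induction y using TensorProduct.induction_on with
        | zero => simp [Θ]
        | add x y hx hy =>
          simp only [Θ, map_add] at hx hy ⊢
          rw [hx, hy]
        | tmul d x => simp only [Θ, LinearMap.lTensor_tmul, gamma_tmul, LinearMap.rTensor_tmul]; rfl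
      have h3 : u'.lTensor K y = 0 := by
        rw [hy, ← coord_natural, LinearMap.lTensor_tmul, hnat, hΘu, tmul_zero, map_zero]
        rfl
      have h4 : TensorProduct.mk R' K (tor (N i)) 1 (u' x) = 0 := by
        rw [TensorProduct.mk_apply, ← LinearMap.lTensor_tmul,
          show (1 : K) ⊗ₜ[R'] x = TensorProduct.mk R' K (tor M) 1 x from rfl, ← hxe, Submonoid.smul_def,
          map_smul, h3, smul_zero]
      obtain ⟨⟨_, n, rfl⟩, hn⟩ := (IsLocalizedModule.eq_zero_iff (Submonoid.powers (Ideal.Quotient.mk p c))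
        (TensorProduct.mk R' K (tor (N i)) 1)).1 h4
      refine ⟨n, ?_⟩
      have h5 : Ideal.Quotient.mk p (c ^ n) • u' x = 0 := by rw [map_pow]; exact hn
      exact congrArg Subtype.val h5
    obtain ⟨n, hn⟩ := h c x hux
    have hx0 : TensorProduct.mk R' K (tor M) 1 x = 0 := by
      refine (IsLocalizedModule.eq_zero_iff (Submonoid.powers (Ideal.Quotient.mk p c)) _).2
        ⟨⟨Ideal.Quotient.mk p c ^ n, n, rfl⟩, ?_⟩
      show Ideal.Quotient.mk p c ^ n • x = 0
      rw [← map_pow]
      exact Subtype.ext hn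
    rw [hx0] at hxe
    exact IsLocalizedModule.smul_injective (TensorProduct.mk R' K (tor M) 1) e (hxe.trans (smul_zero e).symm)
  obtain ⟨⟨_, m, rfl⟩, hm⟩ := (IsLocalizedModule.eq_zero_iff (Submonoid.powers (Ideal.Quotient.mk p c))
    (TensorProduct.mk R' K (F ⊗[R'] tor M) 1)).1 hΘzero
  have hm2 : Θ (tor M) (inc (c ^ m) • w₁) = 0 := by
    rw [hΘsmul]
    rw [Submonoid.smul_def] at hm
    rw [← hm]
    show _ = Ideal.Quotient.mk p c ^ m • Θ (tor M) w₁
    rw [← map_pow]
    generalize Θ (tor M) w₁ = y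
    induction y using TensorProduct.induction_on with
    | zero => simp
    | add x y hx hy => rw [map_add, smul_add, hx, hy]
    | tmul x y =>
      rw [LinearMap.rTensor_tmul, TensorProduct.smul_tmul', LinearMap.mulLeft_apply,
        show σ (inc (c ^ m)) = algebraMap R' B (Ideal.Quotient.mk p (c ^ m)) from rfl,
        ← IsScalarTower.algebraMap_apply, Algebra.smul_def]
  have hB : ∃ n : ℕ, a ^ n • (inc (c ^ m) • w₁) = 0 := by
    obtain ⟨⟨_, n, rfl⟩, hn⟩ := (IsLocalizedModule.eq_zero_iff (Submonoid.powers ab)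
      (AlgebraTensorModule.rTensor R' (tor M) (Algebra.linearMap B F))).1 (show
        AlgebraTensorModule.rTensor R' (tor M) (Algebra.linearMap B F) (gamma k C R' (tor M) (inc (c ^ m) • w₁)) = 0 from hm2)
    refine ⟨n, (gamma k C R' (tor M)).injective ?_⟩
    rw [map_zero, gamma_smul, ← hn, Submonoid.smul_def]
    show (LinearMap.mulLeft R' (σ (a ^ n))).rTensor _ _ = ab ^ n • _
    rw [map_pow]
    generalize gamma k C R' (tor M) (inc (c ^ m) • w₁) = y
    induction y using TensorProduct.induction_on with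
    | zero => simp
    | add x y hx hy => rw [map_add, smul_add, hx, hy]
    | tmul x y => rfl
  obtain ⟨n, hn⟩ := hB
  have hsub : ∀ (t : C ⊗[k] R) (y : C ⊗[k] tor M), (sub M).lTensor C (t • y) = t • (sub M).lTensor C y := fun t y => by
    induction y using TensorProduct.induction_on with
    | zero => simp
    | add x y hx hy => simp only [map_add, smul_add, hx, hy]
    | tmul d x =>
      induction t using TensorProduct.induction_on with
      | zero => simp
      | add b b' hb hb' => simp only [add_smul, map_add, hb, hb']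
      | tmul d r => rfl
  have hfin := congrArg ((sub M).lTensor C) hn
  rw [hsub, hsub, map_zero, hw₁, smul_smul] at hfin
  have hmemQ : a ^ n * inc (c ^ m) ∈ Q := (hQz _).2 hfin
  rcases hQ.mem_or_mem hmemQ with h' | h'
  · exact haQ (hQ.mem_of_pow_mem _ h')
  · exact hc (Ideal.Quotient.eq_zero_iff_mem.2 (‹p.IsPrime›.mem_of_pow_mem m h'))

end Groth.Agent.EGA43.Separating
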