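import Groth.Agent.EGA43.Separating.Fibre
import Groth.Agent.EGA43.Separating.GenFlat

/-!
# Universally separating families (EGA IV 11.10.9)
-/

universe u v

set_option autoImplicit false
set_option backward.isDefEq.respectTransparency false

open TensorProduct Function

namespace Groth.Agent.EGA43.Separating

attribute [local instance] FlatDescent.bcModule

variable {A R : Type u} [CommRing A] [CommRing R] [Algebra A R] {ι : Type v}
  {M : Type u} [AddCommGroup M] [Module A M] [Module R M] [IsScalarTower A R M]
  {N : ι → Type u} [∀ i, AddCommGroup (N i)] [∀ i, Module A (N i)] [∀ i, Module R (N i)]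
  [∀ i, IsScalarTower A R (N i)] {u : ∀ i, M →ₗ[R] N i}

/-- Transitivity of base change. -/
theorem sepAt_trans (B C : Type u) [CommRing B] [Algebra A B] [CommRing C] [Algebra B C] [Algebra A C]
    [IsScalarTower A B C] :
    SepAt B (fun i => InjFibre.bcMap A B (u i)) C ↔ SepAt A u C := by
  let σ := (Algebra.TensorProduct.cancelBaseChange A B C C R).toRingEquiv
  let eM := (AlgebraTensorModule.cancelBaseChange A B C C M).toAddEquiv
  let eN := fun i => (AlgebraTensorModule.cancelBaseChange A B C C (N i)).toAddEquiv
  have hu : ∀ i m, eN i (InjFibre.bcMap B C (InjFibre.bcMap A B (u i)) m) = InjFibre.bcMap A C (u i) (eM m) := fun i m => by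
    induction m using TensorProduct.induction_on with
    | zero => simp
    | add x y hx hy => simp only [map_add, hx, hy]
    | tmul c w =>
      induction w using TensorProduct.induction_on with
      | zero => simp
      | add x y hx hy => simp only [tmul_add, map_add, hx, hy]
      | tmul b x => simp [eM, eN]
  have heM : ∀ r m, eM (r • m) = σ r • eM m := GrFlat.cancel_smul A B C R M
  have heN : ∀ i r m, eN i (r • m) = σ r • eN i m := fun i => GrFlat.cancel_smul A B C R (N i)
  constructor
  · exact fun h => h.of_equiv σ eM heM eN heN hu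
  · refine fun h => h.of_equiv σ.symm eM.symm (fun r m => eM.injective ?_) (fun i => (eN i).symm)
      (fun i r m => (eN i).injective ?_) fun i m => (eN i).injective ?_
    · rw [heM, AddEquiv.apply_symm_apply, AddEquiv.apply_symm_apply, RingEquiv.apply_symm_apply]
    · rw [heN, AddEquiv.apply_symm_apply, AddEquiv.apply_symm_apply, RingEquiv.apply_symm_apply]
    · rw [hu, AddEquiv.apply_symm_apply, AddEquiv.apply_symm_apply]

theorem isNoetherianRing_residueField [IsNoetherianRing R] (p : Ideal A) [p.IsPrime] :
    IsNoetherianRing (p.ResidueField ⊗[A] R) := by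
  let Ap := Localization.AtPrime p
  have : IsNoetherianRing (Ap ⊗[A] R) := by
    have : IsNoetherianRing (R ⊗[A] Ap) :=
      IsLocalization.isNoetherianRing (Algebra.algebraMapSubmonoid R p.primeCompl) _ inferInstance
    exact isNoetherianRing_of_ringEquiv _ (Algebra.TensorProduct.comm A R Ap).toRingEquiv
  refine isNoetherianRing_of_surjective _ _
    (Algebra.TensorProduct.map (IsScalarTower.toAlgHom A Ap p.ResidueField) (AlgHom.id A R)).toRingHom fun z => ?_
  induction z using TensorProduct.induction_on with
  | zero => exact ⟨0, map_zero _⟩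
  | add x y hx hy =>
    obtain ⟨v, hv⟩ := hx
    obtain ⟨w, hw⟩ := hy
    exact ⟨v + w, by rw [map_add, hv, hw]⟩
  | tmul c r =>
    obtain ⟨c, rfl⟩ := Ideal.Quotient.mk_surjective c
    exact ⟨c ⊗ₜ r, rfl⟩

theorem isNoetherianRing_finiteType [IsNoetherianRing R] (B : Type u) [CommRing B] [Algebra A B]
    [Algebra.FiniteType A B] : IsNoetherianRing (B ⊗[A] R) := by
  have : Algebra.FiniteType R (R ⊗[A] B) := Algebra.FiniteType.baseChange (A := B) R
  have : IsNoetherianRing (R ⊗[A] B) := Algebra.FiniteType.isNoetherianRing R _
  exact isNoetherianRing_of_ringEquiv _ (Algebra.TensorProduct.comm A R B).toRingEquiv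

/-- **EGA IV 11.10.9**: fibrewise separating implies universally separating. -/
theorem sepAt_of_fibres [IsNoetherianRing R] [Module.Finite R M] [∀ i, Module.Flat A (N i)]
    (hfib : ∀ (p : Ideal A) [p.IsPrime], SepAt A u p.ResidueField) (B : Type u) [CommRing B] [Algebra A B] :
    SepAt A u B := by
  refine sepAt_of_fg fun S hS => ?_
  have : Algebra.FiniteType A S := S.fg_iff_finiteType.1 hS
  have := isNoetherianRing_finiteType (R := R) (A := A) S
  have : Module.Finite (S ⊗[A] R) (S ⊗[A] M) := FlatDescent.finite_bc A R M S
  refine sep_of_fibres (A := S) fun P _ => (sepAt_trans S P.ResidueField).2 ?_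
  let p := P.comap (algebraMap A S)
  let k := p.ResidueField
  let L := P.ResidueField
  let _ : Algebra k L := (Ideal.ResidueField.map p P (algebraMap A S) rfl).toAlgebra
  have : IsScalarTower A k L := .of_algebraMap_eq fun x => by
    rw [RingHom.algebraMap_toAlgebra]
    exact (Ideal.ResidueField.map_algebraMap p P (algebraMap A S) rfl x).symm
  refine (sepAt_trans k L).1 ?_
  have := isNoetherianRing_residueField (R := R) p
  have : Module.Finite (k ⊗[A] R) (k ⊗[A] M) := FlatDescent.finite_bc A R M k
  refine sepAt_of_fg fun C hC => ?_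
  have : Algebra.FiniteType k C := C.fg_iff_finiteType.1 hC
  exact sepAt_finiteType (hfib p)

end Groth.Agent.EGA43.Separating
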