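import Groth.Agent.EGA43.SchDom
import Groth.Agent.EGA43.Separating.Univ
import Mathlib.AlgebraicGeometry.Pullbacks
import Mathlib.AlgebraicGeometry.PullbackCarrier
import Mathlib.AlgebraicGeometry.ResidueField
import Mathlib.AlgebraicGeometry.Morphisms.Flat
import Mathlib.AlgebraicGeometry.Noetherian

/-!
# Schematically dominant families on affine charts (EGA IV 11.10)
-/

universe u

set_option autoImplicit false
set_option backward.isDefEq.respectTransparency false

open AlgebraicGeometry CategoryTheory Limits TopologicalSpace Opposite TensorProduct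

namespace Groth.Agent.EGA43.Separating

attribute [local instance] FlatDescent.bcModule

section Sections

variable {X Y Z : Scheme.{u}}

theorem eq_zero_of_locally {V : X.Opens} (t : Γ(X, V))
    (h : ∀ x ∈ V, ∃ (W : X.Opens) (hW : W ≤ V), x ∈ W ∧ X.presheaf.map (homOfLE hW).op t = 0) : t = 0 := by
  refine TopCat.Presheaf.section_ext X.sheaf V t 0 fun x hx => ?_
  obtain ⟨W, hW, hxW, h0⟩ := h x hx
  change X.presheaf.germ V _ hx t = X.presheaf.germ V _ hx 0
  rw [map_zero, ← TopCat.Presheaf.germ_res_apply X.presheaf (homOfLE hW) x hxW]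
  exact (congrArg _ h0).trans (map_zero _)

theorem restrict_eq_zero_of_app (q : Y ⟶ X) [IsOpenImmersion q] {V W : X.Opens} (t : Γ(X, V)) (ht : q.app V t = 0)
    (hW : W ≤ V) (hWr : W ≤ q.opensRange) : X.presheaf.map (homOfLE hW).op t = 0 := by
  have := q.isIso_app W hWr
  apply (ConcreteCategory.bijective_of_isIso (q.app W)).1
  rw [map_zero, app_map, ht, map_zero]

theorem app_comp_eq_zero (ω : Z ⟶ Y) (f : Y ⟶ X) {V : X.Opens} (t : Γ(X, V)) (ht : f.app V t = 0) :
    (ω ≫ f).app V t = 0 := by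
  rw [Scheme.Hom.comp_app]
  erw [ConcreteCategory.comp_apply, ht, map_zero]

theorem app_app (ω : Z ⟶ Y) (f : Y ⟶ X) {V : X.Opens} (t : Γ(X, V)) :
    (ω ≫ f).app V t = ω.app (f ⁻¹ᵁ V) (f.app V t) := by
  rw [Scheme.Hom.comp_app]
  rfl

/-- Vanishing may be tested after composing with a jointly surjective family of open immersions. -/
theorem app_eq_zero_of_cover (f : Y ⟶ X) {V : X.Opens} (t : Γ(X, V))
    (h : ∀ y ∈ f ⁻¹ᵁ V, ∃ (Z : Scheme.{u}) (ω : Z ⟶ Y) (_ : IsOpenImmersion ω),
      y ∈ Set.range ω ∧ (ω ≫ f).app V t = 0) : f.app V t = 0 := by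
  refine eq_zero_of_locally _ fun y hy => ?_
  obtain ⟨Z, ω, _, hyω, h0⟩ := h y hy
  refine ⟨(f ⁻¹ᵁ V) ⊓ ω.opensRange, inf_le_left, ⟨hy, hyω⟩, restrict_eq_zero_of_app ω _ ?_ inf_le_left inf_le_right⟩
  rw [← app_app, h0]

end Sections

section SpecLemmas

variable (R : Type u) [CommRing R] {κ : Type u} (C : κ → Type u) [∀ j, CommRing (C j)] [∀ j, Algebra R (C j)]

/-- The element as a global section. -/
noncomputable abbrev gs {R : Type u} [CommRing R] (r : R) : Γ(Spec (.of R), ⊤) := (Scheme.ΓSpecIso (.of R)).inv r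

theorem gs_mul {R : Type u} [CommRing R] (a b : R) : gs (a * b) = gs a * gs b := map_mul _ a b

theorem gs_pow {R : Type u} [CommRing R] (a : R) (n : ℕ) : gs (a ^ n) = gs a ^ n := map_pow _ a n

theorem gs_injective {R : Type u} [CommRing R] : Function.Injective (gs (R := R)) :=
  (ConcreteCategory.bijective_of_isIso (Scheme.ΓSpecIso (.of R)).inv).1

theorem gs_surjective {R : Type u} [CommRing R] : Function.Surjective (gs (R := R)) :=
  (ConcreteCategory.bijective_of_isIso (Scheme.ΓSpecIso (.of R)).inv).2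

theorem appTop_gs {R S : Type u} [CommRing R] [CommRing S] (φ : R →+* S) (r : R) :
    (Spec.map (CommRingCat.ofHom φ)).appTop (gs r) = gs (φ r) :=
  (congrArg (fun ψ => ψ.hom r) (Scheme.ΓSpecIso_inv_naturality (CommRingCat.ofHom φ))).symm

/-- The restriction of a global section. -/
noncomputable abbrev res {X : Scheme.{u}} (U : X.Opens) (x : Γ(X, ⊤)) : Γ(X, U) := X.presheaf.map (homOfLE le_top).op x

theorem exists_pow_mul_eq_zero {R : Type u} [CommRing R] (a z : R) (U : (Spec (.of R)).Opens)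
    (hU : (Spec (.of R)).basicOpen (gs a) ≤ U) (h : res U (gs z) = 0) : ∃ n : ℕ, a ^ n * z = 0 := by
  have := (isAffineOpen_top (Spec (.of R))).isLocalization_basicOpen (gs a)
  have h1 : algebraMap Γ(Spec (.of R), ⊤) Γ(Spec (.of R), (Spec (.of R)).basicOpen (gs a)) (gs z) = 0 := by
    show res _ (gs z) = 0
    have h2 := congrArg ((Spec (.of R)).presheaf.map (homOfLE hU).op) h
    rw [map_zero, ← CommRingCat.comp_apply, ← Functor.map_comp] at h2
    exact h2
  obtain ⟨⟨_, n, rfl⟩, hn⟩ := (IsLocalization.map_eq_zero_iff (Submonoid.powers (gs a)) _ _).1 h1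
  refine ⟨n, gs_injective ?_⟩
  rw [gs_mul, gs_pow, show gs (0 : R) = 0 from map_zero _]
  exact hn

theorem res_basicOpen_eq_zero {R : Type u} [CommRing R] (a z : R) {n : ℕ} (h : a ^ n * z = 0) :
    res ((Spec (.of R)).basicOpen (gs a)) (gs z) = 0 := by
  have := (isAffineOpen_top (Spec (.of R))).isLocalization_basicOpen (gs a)
  show algebraMap Γ(Spec (.of R), ⊤) Γ(Spec (.of R), (Spec (.of R)).basicOpen (gs a)) (gs z) = 0
  rw [IsLocalization.map_eq_zero_iff (Submonoid.powers (gs a))]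
  refine ⟨⟨_, n, rfl⟩, ?_⟩
  show gs a ^ n * gs z = 0
  rw [← gs_pow, ← gs_mul, h]
  exact map_zero _

theorem app_res {X Y : Scheme.{u}} (f : X ⟶ Y) (U : Y.Opens) (x : Γ(Y, ⊤)) :
    f.app U (res U x) = res (f ⁻¹ᵁ U) (f.appTop x) := app_map f le_top x

/-- A separating family detects sections on basic opens. -/
theorem eq_zero_of_sep (h : ∀ a z : R, (∀ j, ∃ n : ℕ, algebraMap R (C j) a ^ n * algebraMap R (C j) z = 0) →
      ∃ n : ℕ, a ^ n * z = 0)
    (a : R) (s : Γ(Spec (.of R), (Spec (.of R)).basicOpen (gs a)))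
    (hs : ∀ j, (Spec.map (CommRingCat.ofHom (algebraMap R (C j)))).app _ s = 0) : s = 0 := by
  have := (isAffineOpen_top (Spec (.of R))).isLocalization_basicOpen (gs a)
  obtain ⟨⟨y, ⟨_, n, rfl⟩⟩, hy⟩ := IsLocalization.surj (Submonoid.powers (gs a)) s
  obtain ⟨z, rfl⟩ := gs_surjective y
  have hy' : s * res _ (gs a ^ n) = res _ (gs z) := hy
  obtain ⟨m, hm⟩ := h a z fun j => by
    refine exists_pow_mul_eq_zero _ _ ((Spec.map (CommRingCat.ofHom (algebraMap R (C j)))) ⁻¹ᵁ
      (Spec (.of R)).basicOpen (gs a)) ?_ ?_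
    · rw [Scheme.preimage_basicOpen_top, appTop_gs]
    · rw [← appTop_gs, ← app_res, ← hy', map_mul, hs j, zero_mul]
  have h0 := res_basicOpen_eq_zero a z hm
  rw [← hy'] at h0
  have hu : IsUnit (res ((Spec (.of R)).basicOpen (gs a)) (gs a ^ n)) :=
    IsLocalization.map_units _ (⟨gs a ^ n, n, rfl⟩ : Submonoid.powers (gs a))
  exact (hu.mul_left_eq_zero).1 h0

end SpecLemmas

section SepFormat

variable {A R : Type u} [CommRing A] [CommRing R] [Algebra A R] {κ : Type u} (C : κ → Type u)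
  [∀ j, CommRing (C j)] [∀ j, Algebra A (C j)] [∀ j, Algebra R (C j)] [∀ j, IsScalarTower A R (C j)]
  (B : Type u) [CommRing B] [Algebra A B]

/-- The base change of `R → C`. -/
noncomputable abbrev bcHom (j : κ) : B ⊗[A] R →ₐ[A] B ⊗[A] C j :=
  Algebra.TensorProduct.map (AlgHom.id A B) (IsScalarTower.toAlgHom A R (C j))

theorem bc_smul_eq_mul (C' : Type u) [CommRing C'] [Algebra A C'] [Algebra R C'] [IsScalarTower A R C']
    (t : B ⊗[A] R) (x : B ⊗[A] C') :
    t • x = Algebra.TensorProduct.map (AlgHom.id A B) (IsScalarTower.toAlgHom A R C') t * x := by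
  induction x using TensorProduct.induction_on with
  | zero => simp
  | add x y hx hy => rw [smul_add, mul_add, hx, hy]
  | tmul d y =>
    induction t using TensorProduct.induction_on with
    | zero => simp
    | add b b' hb hb' => rw [add_smul, map_add, add_mul, hb, hb']
    | tmul c r =>
      rw [FlatDescent.bc_smul_tmul, Algebra.TensorProduct.map_tmul, Algebra.TensorProduct.tmul_mul_tmul,
        AlgHom.id_apply, IsScalarTower.coe_toAlgHom', Algebra.smul_def]

theorem sepAt_iff_mul :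
    SepAt A (fun j => Algebra.linearMap R (C j)) B ↔ ∀ a z : B ⊗[A] R,
      (∀ j, ∃ n : ℕ, bcHom C B j a ^ n * bcHom C B j z = 0) → ∃ n : ℕ, a ^ n * z = 0 := by
  have h1 : ∀ t x : B ⊗[A] R, @HSMul.hSMul _ _ _ (@instHSMul _ _ (FlatDescent.bcModule A R R B).toSMul) t x = t * x :=
      fun t x => by
    refine (bc_smul_eq_mul B R t x).trans (congrArg (· * x) ?_)
    exact AlgHom.congr_fun (Algebra.TensorProduct.map_id (R := A) (S := A) (A := B) (B := R)) t
  have h2 : ∀ (j : κ) (t : B ⊗[A] R) (x : B ⊗[A] C j), t • x = bcHom C B j t * x := fun j => bc_smul_eq_mul B (C j)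
  have h3 : ∀ (j : κ) (x : B ⊗[A] R), InjFibre.bcMap A B (Algebra.linearMap R (C j)) x = bcHom C B j x := fun j x => by
    induction x using TensorProduct.induction_on with
    | zero => simp
    | add x y hx hy => rw [map_add, map_add, hx, hy]
    | tmul d y => rfl
  simp only [SepAt, Sep, h1, h2, h3, map_pow]

end SepFormat

section Chart

variable {X S S' : Scheme.{u}} (p : X ⟶ S) (g : S' ⟶ S) {ι : Type u} {Z : ι → Scheme.{u}} (f : ∀ i, Z i ⟶ X)
  {A R B : Type u} [CommRing A] [CommRing R] [CommRing B] [Algebra A R] [Algebra A B]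
  (a : Spec (.of R) ⟶ X) (b : Spec (.of B) ⟶ S') (c : Spec (.of A) ⟶ S)
  (ha : a ≫ p = Spec.map (CommRingCat.ofHom (algebraMap A R)) ≫ c)
  (hb : b ≫ g = Spec.map (CommRingCat.ofHom (algebraMap A B)) ≫ c)

/-- The family after base change. -/
noncomputable abbrev bcFam (i : ι) : pullback (f i ≫ p) g ⟶ pullback p g :=
  pullback.map (f i ≫ p) g p g (f i) (𝟙 S') (𝟙 S) (Category.comp_id _) ((Category.comp_id _).trans (Category.id_comp _).symm)

include ha hb in
theorem chart_w : (Spec.map (CommRingCat.ofHom (Algebra.TensorProduct.includeRight (R := A) (A := B) (B := R)).toRingHom) ≫ a) ≫ p =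
    (Spec.map (CommRingCat.ofHom (Algebra.TensorProduct.includeLeftRingHom (R := A) (A := B) (B := R))) ≫ b) ≫ g := by
  rw [Category.assoc, Category.assoc, ha, hb, ← Spec.map_comp_assoc, ← Spec.map_comp_assoc]
  congr 2
  ext x
  exact (Algebra.TensorProduct.includeRight (R := A) (A := B) (B := R)).commutes x |>.trans
    (Algebra.TensorProduct.algebraMap_apply x)

/-- The chart `Spec (B ⊗ R) ⟶ X ×_S S'`. -/
noncomputable def chart : Spec (.of (B ⊗[A] R)) ⟶ pullback p g :=
  pullback.lift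
    (Spec.map (CommRingCat.ofHom (Algebra.TensorProduct.includeRight (R := A) (A := B) (B := R)).toRingHom) ≫ a)
    (Spec.map (CommRingCat.ofHom (Algebra.TensorProduct.includeLeftRingHom (R := A) (A := B) (B := R))) ≫ b)
    (chart_w p g a b c ha hb)

theorem chart_eq : chart p g a b c ha hb = (pullbackSpecIso A B R).inv ≫ (pullbackSymmetry _ _).hom ≫
    pullback.map _ _ p g a b c ha.symm hb.symm := by
  apply pullback.hom_ext <;> simp [chart]

theorem isOpenImmersion_chart [IsOpenImmersion a] [IsOpenImmersion b] [IsOpenImmersion c] :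
    IsOpenImmersion (chart p g a b c ha hb) := by
  rw [chart_eq]
  infer_instance

theorem mem_range_chart (x : ↥(pullback p g)) (hxa : pullback.fst p g x ∈ Set.range a)
    (hxb : pullback.snd p g x ∈ Set.range b) [IsOpenImmersion a] [IsOpenImmersion b] [IsOpenImmersion c] :
    x ∈ Set.range (chart p g a b c ha hb) := by
  have : x ∈ Set.range (pullback.map _ _ p g a b c ha.symm hb.symm) := by
    rw [Scheme.Pullback.range_map]
    exact ⟨hxa, hxb⟩
  obtain ⟨y, rfl⟩ := this
  refine ⟨(pullbackSpecIso A B R).hom ((pullbackSymmetry (Spec.map (CommRingCat.ofHom (algebraMap A B)))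
    (Spec.map (CommRingCat.ofHom (algebraMap A R)))).inv y), ?_⟩
  rw [chart_eq, ← Scheme.Hom.comp_apply, ← Scheme.Hom.comp_apply]
  simp

variable [IsOpenImmersion a] [IsOpenImmersion b] [IsOpenImmersion c]
  {κ : ι → Type u} {C : (Σ i, κ i) → Type u} [∀ j, CommRing (C j)] [∀ j, Algebra A (C j)] [∀ j, Algebra R (C j)]
  [∀ j, IsScalarTower A R (C j)] (w : ∀ j : Σ i, κ i, Spec (.of (C j)) ⟶ Z j.1) [∀ j, IsOpenImmersion (w j)]
  (hw : ∀ j, w j ≫ f j.1 = Spec.map (CommRingCat.ofHom (algebraMap R (C j))) ≫ a)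
  (hcov : ∀ i (z : Z i), f i z ∈ Set.range a → ∃ k : κ i, z ∈ Set.range (w ⟨i, k⟩))

include ha hw in
theorem piece_w (j : Σ i, κ i) :
    w j ≫ f j.1 ≫ p = Spec.map (CommRingCat.ofHom (algebraMap A (C j))) ≫ c := by
  rw [← Category.assoc, hw, Category.assoc, ha, ← Spec.map_comp_assoc, IsScalarTower.algebraMap_eq A R (C j),
    CommRingCat.ofHom_comp]

include hw in
theorem chart_natural (j : Σ i, κ i) :
    chart (f j.1 ≫ p) g (w j) b c (piece_w p f a c ha w hw j) hb ≫ bcFam p g f j.1 =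
      Spec.map (CommRingCat.ofHom (bcHom C B j).toRingHom) ≫ chart p g a b c ha hb := by
  apply pullback.hom_ext
  · simp only [chart, Category.assoc, bcFam, pullback.lift_fst, pullback.lift_fst_assoc]
    rw [hw, ← Spec.map_comp_assoc, ← Spec.map_comp_assoc]
    congr 2
  · simp only [chart, Category.assoc, bcFam, pullback.lift_snd, pullback.lift_snd_assoc, Category.comp_id]
    rw [← Spec.map_comp_assoc]
    congr 2
    ext x
    simp

include ha hb hcov hw in
/-- A section killed by the family is zero on a chart where the algebra separates. -/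
theorem restrict_eq_zero_of_sepAt (h : SepAt A (fun j => Algebra.linearMap R (C j)) B)
    {V : (pullback p g).Opens} (t : Γ(pullback p g, V)) (ht : ∀ i, (bcFam p g f i).app V t = 0)
    {x : ↥(pullback p g)} (hx : x ∈ V) (hxa : pullback.fst p g x ∈ Set.range a)
    (hxb : pullback.snd p g x ∈ Set.range b) :
    ∃ (W : (pullback p g).Opens) (hW : W ≤ V), x ∈ W ∧ (pullback p g).presheaf.map (homOfLE hW).op t = 0 := by
  have := isOpenImmersion_chart p g a b c ha hb
  let q := chart p g a b c ha hb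
  obtain ⟨y, rfl⟩ := mem_range_chart p g a b c ha hb x hxa hxb
  obtain ⟨α, hαV, hyα⟩ := (isAffineOpen_top (Spec (.of (B ⊗[A] R)))).exists_basicOpen_le (V := q ⁻¹ᵁ V) ⟨y, hx⟩ trivial
  obtain ⟨α, rfl⟩ := gs_surjective α
  let D := (Spec (.of (B ⊗[A] R))).basicOpen (gs α)
  let s : Γ(Spec (.of (B ⊗[A] R)), D) := (Spec (.of (B ⊗[A] R))).presheaf.map (homOfLE hαV).op (q.app V t)
  let _ : ∀ j : Σ i, κ i, Algebra (B ⊗[A] R) (B ⊗[A] C j) := fun j => (bcHom C B j).toRingHom.toAlgebra
  have hs : s = 0 := by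
    refine eq_zero_of_sep (B ⊗[A] R) (fun j => B ⊗[A] C j) ((sepAt_iff_mul C B).1 h) α s fun j => ?_
    have h1 : (Spec.map (CommRingCat.ofHom (bcHom C B j).toRingHom) ≫ q).app V t = 0 := by
      rw [← chart_natural p g f a b c ha hb w hw j]
      exact app_comp_eq_zero _ _ t (ht j.1)
    show (Spec.map (CommRingCat.ofHom (bcHom C B j).toRingHom)).app D s = 0
    rw [app_map, ← app_app, h1, map_zero]
  have hW : q ''ᵁ D ≤ V := by
    rintro _ ⟨y', hy', rfl⟩
    exact hαV hy'
  refine ⟨q ''ᵁ D, hW, ⟨y, hyα, rfl⟩, ?_⟩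
  have := q.isIso_app (q ''ᵁ D) (q.image_le_opensRange D)
  apply (ConcreteCategory.bijective_of_isIso (q.app (q ''ᵁ D))).1
  rw [map_zero, app_map]
  have hle : q ⁻¹ᵁ (q ''ᵁ D) ≤ D := (q.preimage_image_eq D).le
  have h2 := congrArg ((Spec (.of (B ⊗[A] R))).presheaf.map (homOfLE hle).op) hs
  rw [map_zero, ← CommRingCat.comp_apply, ← Functor.map_comp] at h2
  exact h2

include ha hb hcov hw in
/-- Schematic dominance of the base-changed family gives separation of the algebras of a chart. -/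
theorem sepAt_of_schDom (h : SchDom (bcFam p g f)) : SepAt A (fun j => Algebra.linearMap R (C j)) B := by
  rw [sepAt_iff_mul]
  intro α z hz
  have := isOpenImmersion_chart p g a b c ha hb
  let q := chart p g a b c ha hb
  let D := (Spec (.of (B ⊗[A] R))).basicOpen (gs α)
  let W := q ''ᵁ D
  have := q.isIso_app W (q.image_le_opensRange D)
  obtain ⟨t, ht⟩ := (ConcreteCategory.bijective_of_isIso (q.app W)).2 (res (q ⁻¹ᵁ W) (gs z))
  have hle : q ⁻¹ᵁ W ≤ D := (q.preimage_image_eq D).le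
  have ht0 : t = 0 := h W t fun i => by
    refine app_eq_zero_of_cover _ t fun y hy => ?_
    obtain ⟨y', hy'D, hy'⟩ := (show bcFam p g f i y ∈ W from hy)
    have hfst : f i (pullback.fst (f i ≫ p) g y) = pullback.fst p g (bcFam p g f i y) := by
      rw [← Scheme.Hom.comp_apply, ← Scheme.Hom.comp_apply]; simp [bcFam]
    have hsnd : pullback.snd (f i ≫ p) g y = pullback.snd p g (bcFam p g f i y) := by
      rw [← Scheme.Hom.comp_apply]; simp [bcFam]
    obtain ⟨k, hk⟩ := hcov i (pullback.fst (f i ≫ p) g y) (by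
      rw [hfst, ← hy']
      have h3 : q ≫ pullback.fst p g = _ ≫ a := pullback.lift_fst _ _ _
      exact ⟨_, congr(($h3) y').symm⟩)
    have := isOpenImmersion_chart (f i ≫ p) g (w ⟨i, k⟩) b c (piece_w p f a c ha w hw ⟨i, k⟩) hb
    refine ⟨_, chart (f i ≫ p) g (w ⟨i, k⟩) b c (piece_w p f a c ha w hw ⟨i, k⟩) hb, this,
      mem_range_chart _ _ _ _ _ _ _ y hk (by
        rw [hsnd, ← hy']
        have h3 : q ≫ pullback.snd p g = _ ≫ b := pullback.lift_snd _ _ _
        exact ⟨_, congr(($h3) y').symm⟩), ?_⟩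
    rw [chart_natural p g f a b c ha hb w hw ⟨i, k⟩, app_app, ht, app_res, appTop_gs]
    obtain ⟨n, hn⟩ := hz ⟨i, k⟩
    have h0 := res_basicOpen_eq_zero _ _ hn
    have hle' : (Spec.map (CommRingCat.ofHom (bcHom C B ⟨i, k⟩).toRingHom)) ⁻¹ᵁ (q ⁻¹ᵁ W) ≤
        (Spec (.of (B ⊗[A] C ⟨i, k⟩))).basicOpen (gs (bcHom C B ⟨i, k⟩ α)) := by
      refine le_trans (b := (Spec.map (CommRingCat.ofHom (bcHom C B ⟨i, k⟩).toRingHom)) ⁻¹ᵁ D) (fun y hy => hle hy) ?_
      show (Spec.map (CommRingCat.ofHom (bcHom C B ⟨i, k⟩).toRingHom)) ⁻¹ᵁ D ≤ _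
      rw [Scheme.preimage_basicOpen_top, appTop_gs]
      exact le_rfl
    have h1 := congrArg ((Spec (.of (B ⊗[A] C ⟨i, k⟩))).presheaf.map (homOfLE hle').op) h0
    rw [map_zero, ← CommRingCat.comp_apply, ← Functor.map_comp] at h1
    exact h1
  refine exists_pow_mul_eq_zero α z (q ⁻¹ᵁ W) (q.preimage_image_eq D).ge ?_
  rw [← ht, ht0, map_zero]

end Chart

end Groth.Agent.EGA43.Separating
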