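import Groth.Agent.EGA43.Separating.FlatFP

/-!
# Universally schematically dense opens of flat finitely presented algebras (EGA IV 11.10.10)
-/

universe u

set_option autoImplicit false
set_option backward.isDefEq.respectTransparency false

open TensorProduct Function

namespace Groth.Agent.EGA43.Separating

attribute [local instance] FlatDescent.bcModule

/-- The union of the basic opens of `J` is schematically dense on every basic open. -/
def DenseCond {R : Type u} [CommRing R] (J : Set R) : Prop :=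
  ∀ a z : R, (∀ b ∈ J, ∃ n : ℕ, (a * b) ^ n * z = 0) → ∃ n : ℕ, a ^ n * z = 0

theorem DenseCond.of_injective {R R' : Type u} [CommRing R] [CommRing R'] (φ : R →+* R') (hφ : Injective φ)
    {J : Set R} (h : DenseCond (φ '' J)) : DenseCond J := fun a z hz => by
  obtain ⟨n, hn⟩ := h (φ a) (φ z) (by
    rintro _ ⟨b, hb, rfl⟩
    exact (hz b hb).imp fun n hn => by rw [← map_mul, ← map_pow, ← map_mul, hn, map_zero])
  exact ⟨n, hφ (by rw [map_mul, map_pow, hn, map_zero])⟩

theorem DenseCond.mono_radical {R : Type u} [CommRing R] {J J' : Set R} (h : DenseCond J)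
    (hle : J ⊆ (Ideal.span J').radical) : DenseCond J' := fun a z hz => h a z fun b hb => by
  let I : Ideal R :=
    { carrier := {c | ∃ n : ℕ, a ^ n * c * z = 0}
      zero_mem' := ⟨0, by simp⟩
      add_mem' := by
        rintro x y ⟨n, hn⟩ ⟨m, hm⟩
        exact ⟨n + m, by linear_combination (a ^ m) * hn + (a ^ n) * hm + 0 * (pow_add a n m)⟩
      smul_mem' := by
        rintro c x ⟨n, hn⟩
        exact ⟨n, by rw [smul_eq_mul]; linear_combination c * hn⟩ }
  have hle' : Ideal.span J' ≤ I.radical := Ideal.span_le.2 fun c hc => by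
    obtain ⟨n, hn⟩ := hz c hc
    exact ⟨n, n, by rw [← mul_pow]; exact hn⟩
  obtain ⟨k, n, hkn⟩ := (Ideal.radical_mono hle').trans (Ideal.radical_idem I).le (hle hb)
  refine ⟨n + k, ?_⟩
  linear_combination (a ^ k * b ^ n) * hkn + z * (mul_pow a b (n + k)) + (z * a ^ (n+k) ) * (pow_add b n k) +
    (z * b ^ n * b ^ k) * (pow_add a n k)

variable {A R : Type u} [CommRing A] [CommRing R] [Algebra A R] (J : Set R)

/-- The localisations at the elements of `J`. -/
noncomputable abbrev locFam : ∀ b : J, R →ₗ[R] Localization.Away (b : R) := fun b =>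
  Algebra.linearMap R (Localization.Away (b : R))

variable (A) in
theorem bcMap_loc_eq_zero_iff (B : Type u) [CommRing B] [Algebra A B] (b : J) (x : B ⊗[A] R) :
    InjFibre.bcMap A B (locFam J b) x = 0 ↔ ∃ n : ℕ, ((1 : B) ⊗ₜ[A] (b : R)) ^ n * x = 0 := by
  let L := Localization.Away (b : R)
  let T := Submonoid.powers (b : R)
  let ι : R ⊗[A] B →ₗ[R] L ⊗[A] B := AlgebraTensorModule.rTensor A B (Algebra.linearMap R L)
  have hι : IsLocalizedModule T ι :=
    inferInstanceAs (IsLocalizedModule T (AlgebraTensorModule.rTensor A B (Algebra.linearMap R L)))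
  have key : ∀ x, TensorProduct.comm A B L (InjFibre.bcMap A B (locFam J b) x) = ι (TensorProduct.comm A B R x) := fun x => by
    induction x using TensorProduct.induction_on with
    | zero => simp
    | add x y hx hy => simp only [map_add, hx, hy]
    | tmul c r => simp [ι, InjFibre.bcMap_tmul]; rfl
  have hsm : ∀ (r : R) (x : B ⊗[A] R),
      r • TensorProduct.comm A B R x = TensorProduct.comm A B R (((1 : B) ⊗ₜ[A] r) * x) := fun r x => by
    induction x using TensorProduct.induction_on with
    | zero => simp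
    | add x y hx hy => rw [map_add, smul_add, hx, hy, mul_add, map_add]
    | tmul c s => simp [TensorProduct.smul_tmul']
  rw [← (TensorProduct.comm A B L).map_eq_zero_iff, key, IsLocalizedModule.eq_zero_iff T ι]
  constructor
  · rintro ⟨⟨_, n, rfl⟩, hn⟩
    refine ⟨n, (TensorProduct.comm A B R).injective ?_⟩
    rw [map_zero, Algebra.TensorProduct.tmul_pow, one_pow, ← hsm]
    exact hn
  · rintro ⟨n, hn⟩
    refine ⟨⟨(b : R) ^ n, n, rfl⟩, ?_⟩
    rw [Submonoid.smul_def, hsm]
    rw [Algebra.TensorProduct.tmul_pow, one_pow] at hn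
    rw [hn, map_zero]

variable (A) in
theorem bcMap_pow_smul (B : Type u) [CommRing B] [Algebra A B] (b : J) (a z : B ⊗[A] R) (n : ℕ) :
    a ^ n • InjFibre.bcMap A B (locFam J b) z = InjFibre.bcMap A B (locFam J b) (a ^ n * z) := by
  induction z using TensorProduct.induction_on with
  | zero => simp
  | add x y hx hy => rw [map_add, smul_add, hx, hy, mul_add, map_add]
  | tmul c r =>
    generalize a ^ n = t
    induction t using TensorProduct.induction_on with
    | zero => rw [zero_mul, map_zero, zero_smul]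
    | add x y hx hy => rw [add_smul, hx, hy, add_mul, map_add]
    | tmul d s =>
      rw [InjFibre.bcMap_tmul, FlatDescent.bc_smul_tmul, Algebra.TensorProduct.tmul_mul_tmul, InjFibre.bcMap_tmul,
        ← smul_eq_mul s r, map_smul]

omit J in
theorem bc_smul_eq_mul' (C' : Type u) [CommRing C'] [Algebra A C'] [Algebra R C'] [IsScalarTower A R C']
    (B : Type u) [CommRing B] [Algebra A B] (t : B ⊗[A] R) (x : B ⊗[A] C') :
    t • x = Algebra.TensorProduct.map (AlgHom.id A B) (IsScalarTower.toAlgHom A R C') t * x := by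
  induction x using TensorProduct.induction_on with
  | zero => simp
  | add x y hx hy => rw [smul_add, mul_add, hx, hy]
  | tmul d y =>
    induction t using TensorProduct.induction_on with
    | zero => simp
    | add b b' hb hb' => rw [add_smul, map_add, add_mul, hb, hb']
    | tmul c r =>
      rw [FlatDescent.bc_smul_tmul, Algebra.TensorProduct.map_tmul, Algebra.TensorProduct.tmul_mul_tmul,
        AlgHom.id_apply, IsScalarTower.coe_toAlgHom', Algebra.smul_def]

omit [Algebra A R] in
theorem sep_loc_iff : Sep (locFam J) ↔ DenseCond J := by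
  have h : ∀ (b : J) (n : ℕ) (a z : R), a ^ n • locFam J b z = 0 ↔ ∃ m : ℕ, (b : R) ^ m * (a ^ n * z) = 0 := fun b n a z => by
    rw [← map_smul, Algebra.linearMap_apply, smul_eq_mul,
      IsLocalization.map_eq_zero_iff (Submonoid.powers (b : R)) (Localization.Away (b : R))]
    exact ⟨fun ⟨⟨_, m, rfl⟩, hm⟩ => ⟨m, hm⟩, fun ⟨m, hm⟩ => ⟨⟨_, m, rfl⟩, hm⟩⟩
  constructor
  · intro hs a z hz
    obtain ⟨n, hn⟩ := hs a z fun b => (hz b b.2).imp fun n hn => (h b n a z).2 ⟨n, by
      linear_combination hn - z * (mul_pow a (b : R) n)⟩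
    exact ⟨n, hn⟩
  · intro hs a z hz
    obtain ⟨n, hn⟩ := hs a z fun b hb => by
      obtain ⟨n, hn⟩ := hz ⟨b, hb⟩
      obtain ⟨m, hm⟩ := (h _ n a z).1 hn
      refine ⟨n + m, ?_⟩
      linear_combination (a ^ m * b ^ n) * hm + z * (mul_pow a b (n + m)) + (z * b ^ (n + m)) * (pow_add a n m) +
        (z * a ^ n * a ^ m) * (pow_add b n m)
    exact ⟨n, hn⟩

variable (A) in
/-- Separation of the localisations is schematic density. -/
theorem sepAt_loc_iff (B : Type u) [CommRing B] [Algebra A B] :
    SepAt A (locFam J) B ↔ DenseCond ((fun b : R => (1 : B) ⊗ₜ[A] b) '' J) := by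
  have h1 : ∀ t x : B ⊗[A] R,
      @HSMul.hSMul _ _ _ (@instHSMul _ _ (FlatDescent.bcModule A R R B).toSMul) t x = t * x := fun t x => by
    refine (bc_smul_eq_mul' R B t x).trans (congrArg (· * x) ?_)
    exact AlgHom.congr_fun (Algebra.TensorProduct.map_id (R := A) (S := A) (A := B) (B := R)) t
  constructor
  · intro h a z hz
    obtain ⟨n, hn⟩ := h a z fun b => by
      obtain ⟨n, hn⟩ := hz _ ⟨b, b.2, rfl⟩
      refine ⟨n, ?_⟩
      rw [bcMap_pow_smul, bcMap_loc_eq_zero_iff]
      exact ⟨n, by linear_combination hn - z * (mul_pow a ((1 : B) ⊗ₜ[A] (b : R)) n)⟩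
    exact ⟨n, by rw [← h1]; exact hn⟩
  · intro h a z hz
    obtain ⟨n, hn⟩ := h a z (by
      rintro _ ⟨b, hb, rfl⟩
      obtain ⟨n, hn⟩ := hz ⟨b, hb⟩
      rw [bcMap_pow_smul, bcMap_loc_eq_zero_iff] at hn
      obtain ⟨m, hm⟩ := hn
      refine ⟨n + m, ?_⟩
      linear_combination (a ^ m * ((1 : B) ⊗ₜ[A] b) ^ n) * hm + z * (mul_pow a ((1 : B) ⊗ₜ[A] b) (n + m)) +
        (z * ((1 : B) ⊗ₜ[A] b) ^ (n + m)) * (pow_add a n m) +
        (z * a ^ n * a ^ m) * (pow_add ((1 : B) ⊗ₜ[A] b) n m))
    exact ⟨n, (h1 _ _).trans hn⟩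

variable (A) in
theorem exists_mul_eq_zero_of_fibre [IsNoetherianRing R] [Module.Flat A R] (q : Ideal R) [q.IsPrime]
    (hfib : DenseCond ((fun b : R => (1 : (q.comap (algebraMap A R)).ResidueField) ⊗ₜ[A] b) '' J))
    (a : R) (ha : a ∉ q) (z : R) (hz : ∀ b ∈ J, ∃ n : ℕ, (a * b) ^ n * z = 0) : ∃ t ∉ q, t * z = 0 := by
  have hfl : ∀ b : J, Module.Flat A (Localization.Away (b : R)) := fun b =>
    Module.Flat.trans A R (Localization.Away (b : R))
  rw [← sepAt_loc_iff] at hfib
  obtain ⟨t, ht, htz⟩ := exists_smul_eq_zero_of_fibre (u := locFam J) q hfib a ha z fun b => by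
    obtain ⟨n, hn⟩ := hz b b.2
    refine ⟨n, ?_⟩
    rw [← map_smul, Algebra.linearMap_apply, smul_eq_mul,
      IsLocalization.map_eq_zero_iff (Submonoid.powers (b : R)) (Localization.Away (b : R))]
    exact ⟨⟨_, n, rfl⟩, by linear_combination hn - z * (mul_pow a (b : R) n)⟩
  exact ⟨t, ht, htz⟩

omit J in
theorem map_field_injective {k L : Type u} [Field k] [CommRing L] [Nontrivial L] [Algebra k L] [Algebra A k]
    [Algebra A L] [IsScalarTower A k L] :
    Injective (Algebra.TensorProduct.map (IsScalarTower.toAlgHom A k L) (AlgHom.id A R)) := by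
  have h1 : Injective ((Algebra.linearMap k L).rTensor (k ⊗[A] R)) :=
    Module.Flat.rTensor_preserves_injective_linearMap _ (algebraMap k L).injective
  have key : ∀ u, AlgebraTensorModule.cancelBaseChange A k k L R
      ((Algebra.linearMap k L).rTensor (k ⊗[A] R) ((1 : k) ⊗ₜ u)) =
        Algebra.TensorProduct.map (IsScalarTower.toAlgHom A k L) (AlgHom.id A R) u := fun u => by
    induction u using TensorProduct.induction_on with
    | zero => simp
    | add u v hu hv => simp only [tmul_add, map_add, hu, hv]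
    | tmul c r => simp [Algebra.smul_def]
  intro u v huv
  rw [← key, ← key] at huv
  exact (TensorProduct.lid k (k ⊗[A] R)).symm.injective
    (h1 ((AlgebraTensorModule.cancelBaseChange A k k L R).injective huv))

omit J in
/-- Density over a field survives field extensions. -/
theorem denseCond_fieldExt {J : Set R} (p : Ideal A) [p.IsPrime]
    (h : DenseCond ((fun b : R => (1 : p.ResidueField) ⊗ₜ[A] b) '' J))
    (L : Type u) [CommRing L] [Algebra A L] [Algebra p.ResidueField L] [IsScalarTower A p.ResidueField L] :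
    DenseCond ((fun b : R => (1 : L) ⊗ₜ[A] b) '' J) := by
  have h1 := sepAt_of_field (k := p.ResidueField) ((sep_loc_iff _).2 h) L
  rw [sepAt_loc_iff] at h1
  refine DenseCond.of_injective (Algebra.TensorProduct.cancelBaseChange A p.ResidueField L L R).symm.toRingEquiv.toRingHom
    (Algebra.TensorProduct.cancelBaseChange A p.ResidueField L L R).symm.injective ?_
  rw [Set.image_image] at h1 ⊢
  convert h1 using 2
  simp

omit J in
theorem denseCond_fibre_descent {A S R R₁ : Type u} [CommRing A] [CommRing S] [CommRing R] [CommRing R₁]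
    [Algebra S A] [Algebra A R] [Algebra S R₁] (e : A ⊗[S] R₁ ≃ₐ[A] R) (p : Ideal A) [p.IsPrime] (J₁ : Set R₁)
    (h : DenseCond ((fun x : R₁ => (1 : p.ResidueField) ⊗ₜ[A] e ((1 : A) ⊗ₜ x)) '' J₁))
    (P : Ideal S) [P.IsPrime] (hP : P = p.comap (algebraMap S A)) :
    DenseCond ((fun x : R₁ => (1 : P.ResidueField) ⊗ₜ[S] x) '' J₁) := by
  let K := p.ResidueField
  let _ : Algebra P.ResidueField K := (Ideal.ResidueField.map P p (algebraMap S A) hP).toAlgebra
  have : IsScalarTower S P.ResidueField K := .of_algebraMap_eq fun x => by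
    rw [RingHom.algebraMap_toAlgebra, Ideal.ResidueField.map_algebraMap]
    exact IsScalarTower.algebraMap_apply S A K x
  let Ψ : K ⊗[S] R₁ ≃ₐ[K] K ⊗[A] R :=
    (Algebra.TensorProduct.cancelBaseChange S A K K R₁).symm.trans (Algebra.TensorProduct.congr AlgEquiv.refl e)
  let ι' : P.ResidueField ⊗[S] R₁ →ₐ[S] K ⊗[S] R₁ :=
    Algebra.TensorProduct.map (IsScalarTower.toAlgHom S P.ResidueField K) (AlgHom.id S R₁)
  have hι' : Injective ι' := map_field_injective
  refine DenseCond.of_injective (Ψ.toAlgHom.toRingHom.comp ι'.toRingHom) (Ψ.injective.comp hι') ?_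
  rw [Set.image_image]
  convert h using 2
  simp [Ψ, ι', K]

/-- **EGA IV 11.10.10**, affine: fibrewise density implies density. -/
theorem denseCond_of_fibres [Algebra.FinitePresentation A R] [Module.Flat A R]
    (hfib : ∀ (p : Ideal A) [p.IsPrime], DenseCond ((fun b : R => (1 : p.ResidueField) ⊗ₜ[A] b) '' J)) :
    DenseCond J := by
  classical
  intro a z hz
  by_contra hne
  push Not at hne
  obtain ⟨q, hzq, hq, haq⟩ : ∃ q : Ideal R, (∀ t, t * z = 0 → t ∈ q) ∧ q.IsPrime ∧ a ∉ q := by
    obtain ⟨q, hq, hle, hdisj⟩ := Ideal.exists_le_prime_disjoint (LinearMap.toSpanSingleton R R z).ker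
      (Submonoid.powers a) (Set.disjoint_left.2 <| by
        rintro _ hc ⟨n, rfl⟩
        exact hne n (by simpa using hc))
    exact ⟨q, fun t ht => hle (by simpa using ht), hq,
      fun h => Set.disjoint_left.1 hdisj h (Submonoid.mem_powers a)⟩
  let p := q.comap (algebraMap A R)
  let K := p.ResidueField
  let JK := (fun b : R => (1 : K) ⊗ₜ[A] b) '' J
  have : Algebra.FiniteType K (K ⊗[A] R) := Algebra.FiniteType.baseChange (A := R) K
  have : IsNoetherianRing (K ⊗[A] R) := Algebra.FiniteType.isNoetherianRing K _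
  obtain ⟨sK, hsK, hspan⟩ := Submodule.fg_span_iff_fg_span_finset_subset JK |>.1 (IsNoetherian.noetherian (Submodule.span (K ⊗[A] R) JK))
  obtain ⟨s, hsJ, rfl⟩ := Finset.subset_set_image_iff.1 hsK
  have hdense : DenseCond (↑(s.image fun b : R => (1 : K) ⊗ₜ[A] b) : Set (K ⊗[A] R)) :=
    (hfib p).mono_radical fun x hx => Ideal.le_radical (by
      have h1 : x ∈ Ideal.span JK := Ideal.subset_span hx
      rw [show Ideal.span JK = Submodule.span (K ⊗[A] R) JK from rfl, hspan] at h1
      exact h1)
  have hN : ∃ N : ℕ, ∀ b ∈ s, (a * b) ^ N * z = 0 := by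
    choose! n hn using fun b (hb : b ∈ s) => hz b (hsJ hb)
    refine ⟨s.sup n, fun b hb => ?_⟩
    obtain ⟨c, hc⟩ := Nat.exists_eq_add_of_le (Finset.le_sup hb : n b ≤ s.sup n)
    rw [hc, pow_add, mul_comm ((a * b) ^ n b), mul_assoc, hn b hb, mul_zero]
  obtain ⟨N, hN⟩ := hN
  obtain ⟨A₀, _, _, _, R₀, _, _, _, _, ⟨e⟩⟩ := exists_flat_fp_model A R
  let _ : Algebra A₀ R := Algebra.compHom R (algebraMap A₀ A)
  have : IsScalarTower A₀ A R := .of_algebraMap_eq fun _ => rfl
  let lift : ∀ (S : Subalgebra A₀ A), S ⊗[A₀] R₀ →ₐ[A₀] R := fun S =>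
    (e.restrictScalars A₀).toAlgHom.comp (Algebra.TensorProduct.map S.val (AlgHom.id A₀ R₀))
  have hlift : ∀ {S S' : Subalgebra A₀ A} (hle : S ≤ S') (x : S ⊗[A₀] R₀),
      lift S' (Algebra.TensorProduct.map (Subalgebra.inclusion hle) (AlgHom.id A₀ R₀) x) = lift S x := fun {S S'} hle x => by
    induction x using TensorProduct.induction_on with
    | zero => simp
    | add x y hx hy => simp only [map_add, hx, hy]
    | tmul c r => rfl
  have hex : ∀ x : R, ∃ S : Subalgebra A₀ A, S.FG ∧ ∃ x₁, lift S x₁ = x := fun x => by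
    obtain ⟨S, hS, x₁, hx₁⟩ := TensorProduct.Algebra.exists_of_fg (e.symm x)
    refine ⟨S, hS, x₁, ?_⟩
    have : Algebra.TensorProduct.map S.val (AlgHom.id A₀ R₀) x₁ = e.symm x := by
      rw [← hx₁]
      clear hx₁
      induction x₁ using TensorProduct.induction_on with
      | zero => simp
      | add x y hx hy => simp only [map_add, hx, hy]
      | tmul c r => rfl
    show e (Algebra.TensorProduct.map S.val (AlgHom.id A₀ R₀) x₁) = x
    rw [this, AlgEquiv.apply_symm_apply]
  choose S₀ hS₀ pre hpre using hex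
  let T : Finset R := insert a (insert z s)
  let S := T.sup S₀
  have hS : S.FG := Finset.sup_induction Subalgebra.fg_bot (fun a ha b hb => Subalgebra.FG.sup ha hb) fun x _ => hS₀ x
  let up : ∀ x ∈ T, S ⊗[A₀] R₀ := fun x hx =>
    Algebra.TensorProduct.map (Subalgebra.inclusion (Finset.le_sup hx : S₀ x ≤ S)) (AlgHom.id A₀ R₀) (pre x)
  have hup : ∀ x hx, lift S (up x hx) = x := fun x hx => (hlift _ _).trans (hpre x)
  have hkill : ∀ b : s, ∃ S' : Subalgebra A₀ A, S'.FG ∧ ∃ hle : S ≤ S',
      Algebra.TensorProduct.map (Subalgebra.inclusion hle) (AlgHom.id A₀ R₀)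
        ((up a (by simp [T]) * up b.1 (by simp [T])) ^ N * up z (by simp [T])) = 0 := fun b => by
    let x := (up a (by simp [T]) * up b.1 (by simp [T])) ^ N * up z (by simp [T])
    have hx0 : lift S x = 0 := by
      simp only [x, map_mul, map_pow, hup]
      exact hN b.1 b.2
    have hrt : ∀ {S' S'' : Subalgebra A₀ A} (hle : S' ≤ S'') (y : S' ⊗[A₀] R₀),
        (Subalgebra.inclusion hle).toLinearMap.rTensor R₀ y =
          Algebra.TensorProduct.map (Subalgebra.inclusion hle) (AlgHom.id A₀ R₀) y := fun hle y => by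
      induction y using TensorProduct.induction_on with
      | zero => simp
      | add u v hu hv => simp only [map_add, hu, hv]
      | tmul c r => rfl
    obtain ⟨S', hle, hS', heq⟩ := TensorProduct.Algebra.eq_of_fg_of_subtype_eq hS (t := x) (t' := 0) (by
      rw [map_zero]
      have h1 : e (Algebra.TensorProduct.map S.val (AlgHom.id A₀ R₀) x) = 0 := hx0
      rw [map_eq_zero_iff e e.injective] at h1
      rw [← h1]
      generalize x = y
      induction y using TensorProduct.induction_on with
      | zero => simp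
      | add u v hu hv => simp only [map_add, hu, hv]
      | tmul c r => rfl)
    refine ⟨S', hS', hle, ?_⟩
    rw [map_zero, hrt] at heq
    exact heq
  choose S' hS' hle' hkill using hkill
  let S₁ := S ⊔ Finset.univ.sup S'
  have hS₁ : S₁.FG := hS.sup (Finset.sup_induction Subalgebra.fg_bot (fun a ha b hb => Subalgebra.FG.sup ha hb) fun x _ => hS' x)
  let R₁ := S₁ ⊗[A₀] R₀
  have := FlatDescent.isNoetherianRing_of_fg hS₁
  have : Algebra.FiniteType S₁ R₁ := Algebra.FiniteType.baseChange (A := R₀) S₁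
  have : IsNoetherianRing R₁ := Algebra.FiniteType.isNoetherianRing S₁ _
  let φ := lift S₁
  let m : S ⊗[A₀] R₀ →ₐ[A₀] R₁ :=
    Algebra.TensorProduct.map (Subalgebra.inclusion (le_sup_left : S ≤ S₁)) (AlgHom.id A₀ R₀)
  let J₁ : Set R₁ := Set.range fun b : s => m (up b.1 (by simp [T]))
  let q₁ : Ideal R₁ := q.comap φ
  have hfib₁ : DenseCond ((fun b : R₁ => (1 : (q₁.comap (algebraMap S₁ R₁)).ResidueField) ⊗ₜ[S₁] b) '' J₁) := by
    let e₁ : A ⊗[S₁] R₁ ≃ₐ[A] R := (Algebra.TensorProduct.cancelBaseChange A₀ S₁ A A R₀).trans e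
    have he₁ : ∀ x : R₁, e₁ ((1 : A) ⊗ₜ x) = φ x := fun x => by
      induction x using TensorProduct.induction_on with
      | zero => simp
      | add u v hu hv => simp only [tmul_add, map_add, hu, hv]
      | tmul c r =>
        show e (Algebra.TensorProduct.cancelBaseChange A₀ S₁ A A R₀ ((1 : A) ⊗ₜ (c ⊗ₜ r))) = e ((c : A) ⊗ₜ r)
        rw [Algebra.TensorProduct.cancelBaseChange_tmul, Algebra.smul_def, mul_one]
        rfl
    refine denseCond_fibre_descent e₁ p J₁ ?_ _ ?_
    · refine hdense.mono_radical fun x hx => Ideal.le_radical (Ideal.subset_span ?_)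
      rw [Finset.coe_image] at hx
      obtain ⟨b, hb, rfl⟩ := hx
      exact ⟨_, ⟨⟨b, hb⟩, rfl⟩, congrArg _ ((he₁ _).trans ((hlift _ _).trans (hup b (by simp [T, Finset.mem_coe.1 hb]))))⟩
    · ext x
      simp only [q₁, p, Ideal.mem_comap]
      rw [show φ (algebraMap S₁ R₁ x) = algebraMap A R (algebraMap S₁ A x) from
        (congrArg e (Algebra.TensorProduct.map_tmul _ _ x 1)).trans (e.commutes (x : A))]
  obtain ⟨t, ht, htz⟩ := exists_mul_eq_zero_of_fibre S₁ J₁ q₁ hfib₁ (m (up a (by simp [T])))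
    (fun h => haq (by
      have : φ (m (up a (by simp [T]))) ∈ q := h
      rwa [hlift, hup a (by simp [T])] at this)) (m (up z (by simp [T]))) (by
    rintro _ ⟨b, rfl⟩
    refine ⟨N, ?_⟩
    rw [← map_mul, ← map_pow, ← map_mul]
    have hle : S' b ≤ S₁ := le_trans (Finset.le_sup (Finset.mem_univ b)) le_sup_right
    have := congrArg (Algebra.TensorProduct.map (Subalgebra.inclusion hle) (AlgHom.id A₀ R₀)) (hkill b)
    rw [map_zero] at this
    rw [← this]
    generalize (up a (by simp [T]) * up b.1 (by simp [T])) ^ N * up z (by simp [T]) = y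
    induction y using TensorProduct.induction_on with
    | zero => simp
    | add u v hu hv => simp only [map_add, hu, hv]
    | tmul c r => rfl)
  refine ht (hzq _ ?_)
  have := congrArg φ htz
  rwa [map_mul, map_zero, hlift, hup z (by simp [T])] at this

end Groth.Agent.EGA43.Separating
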