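import Groth.Agent.EGA43.Separating.DenseFP
import Groth.Agent.EGA43.Separating.Chart
import Groth.Prelude.Def_CInt
import Mathlib.AlgebraicGeometry.Morphisms.FinitePresentation
import Mathlib.AlgebraicGeometry.Fiber

/-!
# Universally schematically dense opens on schemes (EGA IV 11.10.10)
-/

universe u

set_option autoImplicit false
set_option backward.isDefEq.respectTransparency false

open AlgebraicGeometry CategoryTheory Limits TopologicalSpace Opposite TensorProduct

namespace Groth.Agent.EGA43.Separating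

attribute [local instance] FlatDescent.bcModule

section Local

variable {R R' : Type u} [CommRing R] [CommRing R'] {Y : Scheme.{u}}

/-- The basic open of an element. -/
noncomputable abbrev bo (b : R) : (Spec (.of R)).Opens := (Spec (.of R)).basicOpen (gs b)

theorem bo_mul (a b : R) : bo (a * b) = bo a ⊓ bo b := by
  rw [bo, gs_mul, Scheme.basicOpen_mul]

theorem mem_bo {b : R} {y : Spec (.of R)} : y ∈ bo b ↔ b ∉ (y : PrimeSpectrum R).asIdeal := by
  rw [bo, basicOpen_eq_of_affine]
  exact Iff.rfl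

/-- The elements whose basic open lies in `W`. -/
def opensJ (W : (Spec (.of R)).Opens) : Set R := {b | bo b ≤ W}

theorem map_res {X : Scheme.{u}} {U U' : X.Opens} (h : U ≤ U') (x : Γ(X, ⊤)) :
    X.presheaf.map (homOfLE h).op (res U' x) = res U x := by
  rw [← CommRingCat.comp_apply, ← Functor.map_comp]
  rfl

theorem map_map {X : Scheme.{u}} {U U' U'' : X.Opens} (h : U ≤ U') (h' : U' ≤ U'') (x : Γ(X, U'')) :
    X.presheaf.map (homOfLE h).op (X.presheaf.map (homOfLE h').op x) = X.presheaf.map (homOfLE (h.trans h')).op x := by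
  rw [← CommRingCat.comp_apply, ← Functor.map_comp]
  rfl

/-- Schematic density gives density on every affine chart. -/
theorem denseCond_of_dense {U : Y.Opens} (h : CInt.IsSchematicallyDense U) (q : Spec (.of R) ⟶ Y)
    [IsOpenImmersion q] : DenseCond (opensJ (q ⁻¹ᵁ U)) := by
  intro a z hz
  let V := q ''ᵁ bo a
  have := q.isIso_app V (q.image_le_opensRange _)
  obtain ⟨t, ht⟩ := (ConcreteCategory.bijective_of_isIso (q.app V)).2 (res (q ⁻¹ᵁ V) (gs z))
  have h0 : Y.presheaf.map (homOfLE (inf_le_left : V ⊓ U ≤ V)).op t = 0 := by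
    refine eq_zero_of_locally _ fun x hx => ?_
    obtain ⟨⟨y, hy, rfl⟩, hxU⟩ := hx
    obtain ⟨β, hβU, hyβ⟩ := (isAffineOpen_top (Spec (.of R))).exists_basicOpen_le (V := q ⁻¹ᵁ U) ⟨y, hxU⟩ trivial
    obtain ⟨b, rfl⟩ := gs_surjective β
    let W := q ''ᵁ bo (a * b)
    have hW : W ≤ V ⊓ U := by
      rintro _ ⟨y', hy', rfl⟩
      rw [bo_mul] at hy'
      exact ⟨⟨y', hy'.1, rfl⟩, hβU hy'.2⟩
    refine ⟨W, hW, ⟨y, by rw [bo_mul]; exact ⟨hy, hyβ⟩, rfl⟩, ?_⟩
    have := q.isIso_app W (q.image_le_opensRange _)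
    apply (ConcreteCategory.bijective_of_isIso (q.app W)).1
    obtain ⟨n, hn⟩ := hz b hβU
    have h1 := congrArg ((Spec (.of R)).presheaf.map (homOfLE (q.preimage_image_eq (bo (a * b))).le).op)
      (res_basicOpen_eq_zero (a * b) z hn)
    rw [map_zero, map_res] at h1
    rw [map_zero, map_map, app_map, ht, ← h1]
    exact map_res (U := q ⁻¹ᵁ W) (U' := q ⁻¹ᵁ V) (fun y hy => (hW.trans inf_le_left) hy) _
  have ht0 : t = 0 := h V (h0.trans (map_zero _).symm)
  exact exists_pow_mul_eq_zero a z (q ⁻¹ᵁ V) (q.preimage_image_eq (bo a)).ge (by rw [← ht, ht0, map_zero])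

/-- Density on charts covering the scheme gives schematic density. -/
theorem dense_of_denseCond {U : Y.Opens}
    (h : ∀ y : Y, ∃ (R : Type u) (_ : CommRing R) (q : Spec (.of R) ⟶ Y) (_ : IsOpenImmersion q),
      y ∈ Set.range q ∧ DenseCond (opensJ (q ⁻¹ᵁ U))) :
    CInt.IsSchematicallyDense U := by
  intro V
  rw [injective_iff_map_eq_zero]
  intro t ht
  refine eq_zero_of_locally t fun x hx => ?_
  obtain ⟨R, _, q, _, ⟨y, rfl⟩, hR⟩ := h x
  obtain ⟨α, hαV, hyα⟩ := (isAffineOpen_top (Spec (.of R))).exists_basicOpen_le (V := q ⁻¹ᵁ V) ⟨y, hx⟩ trivial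
  obtain ⟨a, rfl⟩ := gs_surjective α
  let s : Γ(Spec (.of R), bo a) := (Spec (.of R)).presheaf.map (homOfLE hαV).op (q.app V t)
  have hs : s = 0 := by
    have := (isAffineOpen_top (Spec (.of R))).isLocalization_basicOpen (gs a)
    obtain ⟨⟨z', ⟨_, n, rfl⟩⟩, hy⟩ := IsLocalization.surj (Submonoid.powers (gs a)) s
    obtain ⟨z, rfl⟩ := gs_surjective z'
    have hy' : s * res _ (gs a ^ n) = res _ (gs z) := hy
    obtain ⟨m, hm⟩ := hR a z fun b hb => by
      refine exists_pow_mul_eq_zero (a * b) z (bo (a * b)) le_rfl ?_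
      have hle : bo (a * b) ≤ bo a := (bo_mul a b).le.trans inf_le_left
      have hle' : bo (a * b) ≤ q ⁻¹ᵁ (V ⊓ U) := fun y' hy' => by
        rw [bo_mul] at hy'
        exact ⟨hαV hy'.1, hb hy'.2⟩
      have h1 : (Spec (.of R)).presheaf.map (homOfLE hle).op s = 0 := by
        have h2 := congrArg ((Spec (.of R)).presheaf.map (homOfLE hle').op) (congrArg (q.app (V ⊓ U)) ht)
        rw [map_zero, map_zero, app_map] at h2
        rw [show s = _ from rfl, map_map]
        exact (map_map hle' (fun _ hy => hy.1) _).symm.trans h2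
      rw [← map_res hle, ← hy', map_mul, h1, zero_mul]
    have h0 := res_basicOpen_eq_zero a z hm
    rw [← hy'] at h0
    have hu : IsUnit (res (bo a) (gs a ^ n)) :=
      IsLocalization.map_units _ (⟨gs a ^ n, n, rfl⟩ : Submonoid.powers (gs a))
    exact (hu.mul_left_eq_zero).1 h0
  have hW : q ''ᵁ bo a ≤ V := by
    rintro _ ⟨y', hy', rfl⟩
    exact hαV hy'
  refine ⟨q ''ᵁ bo a, hW, ⟨y, hyα, rfl⟩, ?_⟩
  have := q.isIso_app (q ''ᵁ bo a) (q.image_le_opensRange _)
  apply (ConcreteCategory.bijective_of_isIso (q.app (q ''ᵁ bo a))).1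
  have h2 := congrArg ((Spec (.of R)).presheaf.map (homOfLE (q.preimage_image_eq (bo a)).le).op) hs
  rw [map_zero, show s = _ from rfl, map_map] at h2
  rw [map_zero, app_map]
  exact h2

theorem image_subset_opensJ (φ : R →+* R') (W : (Spec (.of R)).Opens) :
    φ '' opensJ W ⊆ opensJ ((Spec.map (CommRingCat.ofHom φ)) ⁻¹ᵁ W) := by
  rintro _ ⟨b, hb, rfl⟩
  show bo (φ b) ≤ _
  rw [bo, ← appTop_gs, ← Scheme.preimage_basicOpen_top]
  exact fun y hy => hb hy

theorem opensJ_subset_radical (φ : R →+* R') (W : (Spec (.of R)).Opens) :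
    opensJ ((Spec.map (CommRingCat.ofHom φ)) ⁻¹ᵁ W) ⊆ (Ideal.span (φ '' opensJ W)).radical := by
  intro β hβ
  rw [SetLike.mem_coe, Ideal.radical_eq_sInf, Submodule.mem_sInf]
  rintro P ⟨hle, hP⟩
  by_contra hβP
  let y : Spec (.of R') := ⟨P, hP⟩
  have hy : y ∈ bo β := mem_bo.2 hβP
  obtain ⟨γ, hγW, hyγ⟩ := (isAffineOpen_top (Spec (.of R))).exists_basicOpen_le (V := W)
    ⟨Spec.map (CommRingCat.ofHom φ) y, hβ hy⟩ trivial
  obtain ⟨b, rfl⟩ := gs_surjective γ
  exact (mem_bo.1 hyγ) (hle (Ideal.subset_span ⟨b, hγW, rfl⟩))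

theorem denseCond_preimage_iff (φ : R →+* R') (W : (Spec (.of R)).Opens) :
    DenseCond (opensJ ((Spec.map (CommRingCat.ofHom φ)) ⁻¹ᵁ W)) ↔ DenseCond (φ '' opensJ W) :=
  ⟨fun h => h.mono_radical (opensJ_subset_radical φ W),
    fun h => h.mono_radical fun _ hx => Ideal.le_radical (Ideal.subset_span (image_subset_opensJ φ W hx))⟩

end Local

section Chart

variable {X S S' : Scheme.{u}} (p : X ⟶ S) (g : S' ⟶ S)
  {A R B : Type u} [CommRing A] [CommRing R] [CommRing B] [Algebra A R] [Algebra A B]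
  (a : Spec (.of R) ⟶ X) (b : Spec (.of B) ⟶ S') (c : Spec (.of A) ⟶ S)
  (ha : a ≫ p = Spec.map (CommRingCat.ofHom (algebraMap A R)) ≫ c)
  (hb : b ≫ g = Spec.map (CommRingCat.ofHom (algebraMap A B)) ≫ c)

theorem denseCond_chart_iff (U : X.Opens) :
    DenseCond (opensJ ((chart p g a b c ha hb) ⁻¹ᵁ ((pullback.fst p g) ⁻¹ᵁ U))) ↔
      DenseCond ((fun x : R => (1 : B) ⊗ₜ[A] x) '' opensJ (a ⁻¹ᵁ U)) := by
  rw [← Scheme.Hom.comp_preimage, chart, pullback.lift_fst, Scheme.Hom.comp_preimage, denseCond_preimage_iff]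
  rfl

end Chart

/-- **EGA IV 11.10.10**. -/
theorem isSchematicallyDense_pullback_of_fibres {X S : Scheme.{u}} (f : X ⟶ S) [Flat f]
    [LocallyOfFinitePresentation f] (U : X.Opens)
    (h : ∀ s : S, CInt.IsSchematicallyDense ((f.fiberι s) ⁻¹ᵁ U)) {S' : Scheme.{u}} (g : S' ⟶ S) :
    CInt.IsSchematicallyDense ((pullback.fst f g) ⁻¹ᵁ U) := by
  refine dense_of_denseCond fun x => ?_
  let x₁ := pullback.fst f g x
  let x₂ := pullback.snd f g x
  have hs : f x₁ = g x₂ := by
    show f (pullback.fst f g x) = g (pullback.snd f g x)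
    rw [← Scheme.Hom.comp_apply, ← Scheme.Hom.comp_apply, pullback.condition]
  obtain ⟨S₀, hS₀, hsS, -⟩ := exists_isAffineOpen_mem_and_subset (X := S) (x := f x₁) (U := ⊤) trivial
  obtain ⟨V, hV, hxV, hVle⟩ := exists_isAffineOpen_mem_and_subset (X := X) (x := x₁) (U := f ⁻¹ᵁ S₀) hsS
  obtain ⟨T, hT, hxT, hTle⟩ := exists_isAffineOpen_mem_and_subset (X := S') (x := x₂) (U := g ⁻¹ᵁ S₀)
    (show g x₂ ∈ S₀ from hs ▸ hsS)
  let A := Γ(S, S₀)
  let R := Γ(X, V)
  let B := Γ(S', T)
  let _ : Algebra A R := (f.appLE S₀ V hVle).hom.toAlgebra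
  let _ : Algebra A B := (g.appLE S₀ T hTle).hom.toAlgebra
  let a : Spec (.of R) ⟶ X := hV.fromSpec
  let b : Spec (.of B) ⟶ S' := hT.fromSpec
  let c : Spec (.of A) ⟶ S := hS₀.fromSpec
  have ha : a ≫ f = Spec.map (CommRingCat.ofHom (algebraMap A R)) ≫ c := (hS₀.SpecMap_appLE_fromSpec f hV hVle).symm
  have hb : b ≫ g = Spec.map (CommRingCat.ofHom (algebraMap A B)) ≫ c := (hS₀.SpecMap_appLE_fromSpec g hT hTle).symm
  have : Module.Flat A R := RingHom.flat_algebraMap_iff.1 (Flat.flat_appLE f hS₀ hV hVle)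
  have : Algebra.FinitePresentation A R :=
    RingHom.finitePresentation_algebraMap.1 (f.finitePresentation_appLE hS₀ hV hVle)
  let J := opensJ (a ⁻¹ᵁ U)
  have hfib : ∀ (P : Ideal A) [P.IsPrime], DenseCond ((fun x : R => (1 : P.ResidueField) ⊗ₜ[A] x) '' J) := by
    intro P hP
    let y : Spec (.of A) := ⟨P, hP⟩
    let e : Spec (.of P.ResidueField) ⟶ Spec (S.residueField (c y)) :=
      Spec.map (Scheme.Spec.residueFieldIso (.of A) y).hom ≫ Spec.map (c.residueFieldMap y)
    have : IsOpenImmersion e := inferInstance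
    have hbe : e ≫ S.fromSpecResidueField (c y) = Spec.map (CommRingCat.ofHom (algebraMap A P.ResidueField)) ≫ c := by
      simp only [e, Category.assoc, Scheme.Hom.SpecMap_residueFieldMap_fromSpecResidueField]
      rw [← Scheme.Spec.map_residueFieldIso_inv_eq_fromSpecResidueField]
      simp only [← Category.assoc, ← Spec.map_comp]
      simp [Category.assoc]
      rfl
    have := isOpenImmersion_chart f (S.fromSpecResidueField (c y)) a e c ha hbe
    exact (denseCond_chart_iff f _ a e c ha hbe U).1 (denseCond_of_dense (h (c y)) _)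
  have := isOpenImmersion_chart f g a b c ha hb
  refine ⟨B ⊗[A] R, inferInstance, chart f g a b c ha hb, this, ?_, (denseCond_chart_iff f g a b c ha hb U).2 ?_⟩
  · exact mem_range_chart f g a b c ha hb x (by show _ ∈ Set.range hV.fromSpec; rw [hV.range_fromSpec]; exact hxV)
      (by show _ ∈ Set.range hT.fromSpec; rw [hT.range_fromSpec]; exact hxT)
  · refine denseCond_of_fibres (A := B) _ fun P _ => ?_
    let p := P.comap (algebraMap A B)
    let _ : Algebra p.ResidueField P.ResidueField := (Ideal.ResidueField.map p P (algebraMap A B) rfl).toAlgebra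
    have : IsScalarTower A p.ResidueField P.ResidueField := .of_algebraMap_eq fun x => by
      rw [RingHom.algebraMap_toAlgebra, Ideal.ResidueField.map_algebraMap]
      exact IsScalarTower.algebraMap_apply A B P.ResidueField x
    refine DenseCond.of_injective (Algebra.TensorProduct.cancelBaseChange A B P.ResidueField P.ResidueField R).toRingEquiv.toRingHom
      (Algebra.TensorProduct.cancelBaseChange A B P.ResidueField P.ResidueField R).injective ?_
    have h1 := denseCond_fieldExt p (hfib p) P.ResidueField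
    rw [Set.image_image, Set.image_image]
    convert h1 using 2
    simp

end Groth.Agent.EGA43.Separating
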