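import Groth.Agent.EGA43.Separating.Chart

/-!
# EGA IV 11.10.9: universally schematically dominant families
-/

universe u

set_option autoImplicit false
set_option backward.isDefEq.respectTransparency false

open AlgebraicGeometry CategoryTheory Limits TopologicalSpace Opposite TensorProduct

namespace Groth.Agent.EGA43.Separating

attribute [local instance] FlatDescent.bcModule

theorem fiberMap_eq_bcFam {X S : Scheme.{u}} (p : X ⟶ S) {ι : Type u} {Z : ι → Scheme.{u}} (f : ∀ i, Z i ⟶ X)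
    (s : S) (i : ι) (fm : (f i ≫ p).fiber s ⟶ p.fiber s) (h1 : fm ≫ p.fiberι s = (f i ≫ p).fiberι s ≫ f i)
    (h2 : fm ≫ p.fiberToSpecResidueField s = (f i ≫ p).fiberToSpecResidueField s) :
    fm = bcFam p (S.fromSpecResidueField s) f i := by
  refine pullback.hom_ext ?_ ?_
  · rw [bcFam, pullback.lift_fst]; exact h1
  · rw [bcFam, pullback.lift_snd, Category.comp_id]; exact h2

theorem schDom_bcFam_of_fibres {X S : Scheme.{u}} [IsLocallyNoetherian X] (p : X ⟶ S) {ι : Type u}
    (Z : ι → Scheme.{u}) (f : ∀ i, Z i ⟶ X) [∀ i, Flat (f i ≫ p)]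
    (h : ∀ s : S, SchDom (bcFam p (S.fromSpecResidueField s) f)) {S' : Scheme.{u}} (g : S' ⟶ S) :
    SchDom (bcFam p g f) := by
  intro V t ht
  refine eq_zero_of_locally t fun x hx => ?_
  let x₁ := pullback.fst p g x
  let x₂ := pullback.snd p g x
  have hs : p x₁ = g x₂ := by
    show p (pullback.fst p g x) = g (pullback.snd p g x)
    rw [← Scheme.Hom.comp_apply, ← Scheme.Hom.comp_apply, pullback.condition]
  obtain ⟨S₀, hS₀, hsS, -⟩ := exists_isAffineOpen_mem_and_subset (X := S) (x := p x₁) (U := ⊤) trivial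
  obtain ⟨U, hU, hxU, hUle⟩ := exists_isAffineOpen_mem_and_subset (X := X) (x := x₁) (U := p ⁻¹ᵁ S₀) hsS
  obtain ⟨T, hT, hxT, hTle⟩ := exists_isAffineOpen_mem_and_subset (X := S') (x := x₂) (U := g ⁻¹ᵁ S₀)
    (show g x₂ ∈ S₀ from hs ▸ hsS)
  let A := Γ(S, S₀)
  let R := Γ(X, U)
  let B := Γ(S', T)
  let _ : Algebra A R := (p.appLE S₀ U hUle).hom.toAlgebra
  let _ : Algebra A B := (g.appLE S₀ T hTle).hom.toAlgebra
  let a : Spec (.of R) ⟶ X := hU.fromSpec
  let b : Spec (.of B) ⟶ S' := hT.fromSpec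
  let c : Spec (.of A) ⟶ S := hS₀.fromSpec
  have ha : a ≫ p = Spec.map (CommRingCat.ofHom (algebraMap A R)) ≫ c := (hS₀.SpecMap_appLE_fromSpec p hU hUle).symm
  have hb : b ≫ g = Spec.map (CommRingCat.ofHom (algebraMap A B)) ≫ c := (hS₀.SpecMap_appLE_fromSpec g hT hTle).symm
  let κ : ι → Type u := fun i => {W : (Z i).affineOpens // W.1 ≤ f i ⁻¹ᵁ U}
  let C : (Σ i, κ i) → Type u := fun j => Γ(Z j.1, j.2.1.1)
  let _ : ∀ j : Σ i, κ i, Algebra R (C j) := fun j => ((f j.1).appLE U j.2.1.1 j.2.2).hom.toAlgebra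
  let _ : ∀ j : Σ i, κ i, Algebra A (C j) := fun j =>
    ((algebraMap R (C j)).comp (algebraMap A R)).toAlgebra
  have : ∀ j : Σ i, κ i, IsScalarTower A R (C j) := fun j => .of_algebraMap_eq fun _ => rfl
  let w : ∀ j : Σ i, κ i, Spec (.of (C j)) ⟶ Z j.1 := fun j => j.2.1.2.fromSpec
  have hw : ∀ j, w j ≫ f j.1 = Spec.map (CommRingCat.ofHom (algebraMap R (C j))) ≫ a := fun j =>
    (hU.SpecMap_appLE_fromSpec (f j.1) j.2.1.2 j.2.2).symm
  have hrange : Set.range a = (U : Set X) := hU.range_fromSpec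
  have hcov : ∀ i (z : Z i), f i z ∈ Set.range a → ∃ k : κ i, z ∈ Set.range (w ⟨i, k⟩) := fun i z hz => by
    rw [hrange] at hz
    obtain ⟨W, hW, hzW, hWle⟩ := exists_isAffineOpen_mem_and_subset (X := Z i) (x := z) (U := f i ⁻¹ᵁ U) hz
    refine ⟨⟨⟨W, hW⟩, hWle⟩, ?_⟩
    show z ∈ Set.range hW.fromSpec
    rw [hW.range_fromSpec]
    exact hzW
  have : IsNoetherianRing R := IsLocallyNoetherian.component_noetherian ⟨U, hU⟩
  have : ∀ j : Σ i, κ i, Module.Flat A (C j) := fun j => by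
    have hfl : ((f j.1 ≫ p).appLE S₀ j.2.1.1 (j.2.2.trans fun y hy => hUle hy)).hom.Flat :=
      Flat.flat_appLE _ hS₀ j.2.1.2 _
    rw [Scheme.Hom.comp_appLE] at hfl
    have : (algebraMap A (C j)).Flat := by
      convert hfl using 1
      show (((f j.1).appLE U j.2.1.1 j.2.2).hom.comp (p.appLE S₀ U hUle).hom) = _
      rw [← CommRingCat.hom_comp, Scheme.Hom.appLE_comp_appLE]
      simp [Scheme.Hom.comp_appLE]
    exact RingHom.flat_algebraMap_iff.1 this
  have hsep : ∀ (P : Ideal A) [P.IsPrime], SepAt A (fun j : Σ i, κ i => Algebra.linearMap R (C j)) P.ResidueField := by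
    intro P hP
    let y : Spec (.of A) := ⟨P, hP⟩
    let e : Spec (.of P.ResidueField) ⟶ Spec (S.residueField (c y)) :=
      Spec.map (Scheme.Spec.residueFieldIso (.of A) y).hom ≫ Spec.map (c.residueFieldMap y)
    have : IsOpenImmersion e := inferInstance
    have hbe : e ≫ S.fromSpecResidueField (c y) = Spec.map (CommRingCat.ofHom (algebraMap A P.ResidueField)) ≫ c := by
      simp only [e, Category.assoc, Scheme.Hom.SpecMap_residueFieldMap_fromSpecResidueField]
      rw [← Scheme.Spec.map_residueFieldIso_inv_eq_fromSpecResidueField]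
      simp only [← Category.assoc, ← Spec.map_comp]
      simp [Category.assoc]
      rfl
    exact sepAt_of_schDom p (S.fromSpecResidueField (c y)) f a e c ha hbe w hw hcov (h (c y))
  exact restrict_eq_zero_of_sepAt p g f a b c ha hb w hw hcov (sepAt_of_fibres hsep B) t ht hx
    (hrange ▸ hxU) (by show _ ∈ Set.range hT.fromSpec; rw [hT.range_fromSpec]; exact hxT)

end Groth.Agent.EGA43.Separating
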