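import Groth.Agent.EGA43.Separating.Chart
import Groth.Agent.EGA43.Separating.FlatFP

/-!
# Base change of schematically dominant families (EGA IV 11.10.5, 11.10.6)
-/

universe u

set_option autoImplicit false
set_option backward.isDefEq.respectTransparency false

open AlgebraicGeometry CategoryTheory Limits TopologicalSpace Opposite TensorProduct

namespace Groth.Agent.EGA43.Separating

attribute [local instance] FlatDescent.bcModule

theorem sep_iff_mul {R : Type u} [CommRing R] {κ : Type u} (C : κ → Type u) [∀ j, CommRing (C j)]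
    [∀ j, Algebra R (C j)] :
    Sep (fun j => Algebra.linearMap R (C j)) ↔ ∀ a z : R,
      (∀ j, ∃ n : ℕ, algebraMap R (C j) a ^ n * algebraMap R (C j) z = 0) → ∃ n : ℕ, a ^ n * z = 0 := by
  simp only [Sep, Algebra.smul_def, map_pow, Algebra.linearMap_apply, Algebra.algebraMap_self, RingHom.id_apply]

/-- Separation of the algebras of an affine open, from schematic dominance. -/
theorem sep_of_schDom {X : Scheme.{u}} {ι : Type u} {Z : ι → Scheme.{u}} (f : ∀ i, Z i ⟶ X) {R : Type u}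
    [CommRing R] (a : Spec (.of R) ⟶ X) [IsOpenImmersion a] {κ : ι → Type u} {C : (Σ i, κ i) → Type u}
    [∀ j, CommRing (C j)] [∀ j, Algebra R (C j)] (w : ∀ j : Σ i, κ i, Spec (.of (C j)) ⟶ Z j.1)
    [∀ j, IsOpenImmersion (w j)]
    (hw : ∀ j, w j ≫ f j.1 = Spec.map (CommRingCat.ofHom (algebraMap R (C j))) ≫ a)
    (hcov : ∀ i (z : Z i), f i z ∈ Set.range a → ∃ k : κ i, z ∈ Set.range (w ⟨i, k⟩)) (h : SchDom f) :
    Sep (fun j => Algebra.linearMap R (C j)) := by
  rw [sep_iff_mul]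
  intro α z hz
  let D := (Spec (.of R)).basicOpen (gs α)
  let W := a ''ᵁ D
  have := a.isIso_app W (a.image_le_opensRange D)
  obtain ⟨t, ht⟩ := (ConcreteCategory.bijective_of_isIso (a.app W)).2 (res (a ⁻¹ᵁ W) (gs z))
  have ht0 : t = 0 := h W t fun i => by
    refine app_eq_zero_of_cover _ t fun y hy => ?_
    obtain ⟨y', -, hy'⟩ := (show f i y ∈ W from hy)
    obtain ⟨k, hk⟩ := hcov i y ⟨y', hy'⟩
    refine ⟨_, w ⟨i, k⟩, inferInstance, hk, ?_⟩
    rw [hw ⟨i, k⟩, app_app, ht, app_res, appTop_gs]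
    obtain ⟨n, hn⟩ := hz ⟨i, k⟩
    have h0 := res_basicOpen_eq_zero _ _ hn
    have hle : (Spec.map (CommRingCat.ofHom (algebraMap R (C ⟨i, k⟩)))) ⁻¹ᵁ (a ⁻¹ᵁ W) ≤
        (Spec (.of (C ⟨i, k⟩))).basicOpen (gs (algebraMap R (C ⟨i, k⟩) α)) := by
      refine le_trans (b := (Spec.map (CommRingCat.ofHom (algebraMap R (C ⟨i, k⟩)))) ⁻¹ᵁ D)
        (fun y hy => (a.preimage_image_eq D).le hy) ?_
      rw [Scheme.preimage_basicOpen_top, appTop_gs]
    have h1 := congrArg ((Spec (.of (C ⟨i, k⟩))).presheaf.map (homOfLE hle).op) h0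
    rw [map_zero, ← CommRingCat.comp_apply, ← Functor.map_comp] at h1
    exact h1
  refine exists_pow_mul_eq_zero α z (a ⁻¹ᵁ W) (a.preimage_image_eq D).ge ?_
  rw [← ht, ht0, map_zero]

/-- The affine opens of `Z i` over `U`. -/
abbrev Piece {X : Scheme.{u}} {ι : Type u} {Z : ι → Scheme.{u}} (f : ∀ i, Z i ⟶ X) (U : X.Opens) (i : ι) : Type u :=
  {W : (Z i).affineOpens // W.1 ≤ f i ⁻¹ᵁ U}

/-- Base change of a schematically dominant family: the local statement. -/
theorem schDom_bcFam_of_sep {X S S' : Scheme.{u}} (p : X ⟶ S) (g : S' ⟶ S) {ι : Type u} {Z : ι → Scheme.{u}}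
    (f : ∀ i, Z i ⟶ X) (h : SchDom f)
    (H : ∀ (S₀ : S.Opens) (T : S'.Opens) (_ : IsAffineOpen S₀) (_ : IsAffineOpen T) (hT : T ≤ g ⁻¹ᵁ S₀)
      (R : Type u) [CommRing R] (φ : Γ(S, S₀) →+* R) {κ : Type u} (C : κ → Type u) [∀ j, CommRing (C j)]
      [∀ j, Algebra R (C j)],
      Sep (fun j => Algebra.linearMap R (C j)) →
        letI : Algebra Γ(S, S₀) R := φ.toAlgebra
        letI : Algebra Γ(S, S₀) Γ(S', T) := (g.appLE S₀ T hT).hom.toAlgebra
        letI : ∀ j, Algebra Γ(S, S₀) (C j) := fun j => ((algebraMap R (C j)).comp φ).toAlgebra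
        letI : ∀ j, IsScalarTower Γ(S, S₀) R (C j) := fun j => .of_algebraMap_eq fun _ => rfl
        SepAt Γ(S, S₀) (fun j => Algebra.linearMap R (C j)) Γ(S', T)) :
    SchDom (bcFam p g f) := by
  intro V t ht
  refine eq_zero_of_locally t fun x hx => ?_
  let x₁ := pullback.fst p g x
  let x₂ := pullback.snd p g x
  have hs : p x₁ = g x₂ := by
    show p (pullback.fst p g x) = g (pullback.snd p g x)
    rw [← Scheme.Hom.comp_apply, ← Scheme.Hom.comp_apply, pullback.condition]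
  obtain ⟨S₀, hS₀, hsS, -⟩ := exists_isAffineOpen_mem_and_subset (X := S) (x := p x₁) (U := ⊤) trivial
  obtain ⟨U, hU, hxU, hUle⟩ := exists_isAffineOpen_mem_and_subset (X := X) (x := x₁) (U := p ⁻¹ᵁ S₀) hsS
  obtain ⟨T, hT, hxT, hTle⟩ := exists_isAffineOpen_mem_and_subset (X := S') (x := x₂) (U := g ⁻¹ᵁ S₀)
    (show g x₂ ∈ S₀ from hs ▸ hsS)
  let A := Γ(S, S₀)
  let R := Γ(X, U)
  let B := Γ(S', T)
  let _ : Algebra A R := (p.appLE S₀ U hUle).hom.toAlgebra
  let _ : Algebra A B := (g.appLE S₀ T hTle).hom.toAlgebra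
  let a : Spec (.of R) ⟶ X := hU.fromSpec
  let b : Spec (.of B) ⟶ S' := hT.fromSpec
  let c : Spec (.of A) ⟶ S := hS₀.fromSpec
  have ha : a ≫ p = Spec.map (CommRingCat.ofHom (algebraMap A R)) ≫ c := (hS₀.SpecMap_appLE_fromSpec p hU hUle).symm
  have hb : b ≫ g = Spec.map (CommRingCat.ofHom (algebraMap A B)) ≫ c := (hS₀.SpecMap_appLE_fromSpec g hT hTle).symm
  let C : (Σ i, Piece f U i) → Type u := fun j => Γ(Z j.1, j.2.1.1)
  let _ : ∀ j : Σ i, Piece f U i, Algebra R (C j) := fun j => ((f j.1).appLE U j.2.1.1 j.2.2).hom.toAlgebra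
  let _ : ∀ j : Σ i, Piece f U i, Algebra A (C j) := fun j => ((algebraMap R (C j)).comp (algebraMap A R)).toAlgebra
  have : ∀ j : Σ i, Piece f U i, IsScalarTower A R (C j) := fun j => .of_algebraMap_eq fun _ => rfl
  let w : ∀ j : Σ i, Piece f U i, Spec (.of (C j)) ⟶ Z j.1 := fun j => j.2.1.2.fromSpec
  have hw : ∀ j, w j ≫ f j.1 = Spec.map (CommRingCat.ofHom (algebraMap R (C j))) ≫ a := fun j =>
    (hU.SpecMap_appLE_fromSpec (f j.1) j.2.1.2 j.2.2).symm
  have hrange : Set.range a = (U : Set X) := hU.range_fromSpec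
  have hcov : ∀ i (z : Z i), f i z ∈ Set.range a → ∃ k : Piece f U i, z ∈ Set.range (w ⟨i, k⟩) := fun i z hz => by
    rw [hrange] at hz
    obtain ⟨W, hW, hzW, hWle⟩ := exists_isAffineOpen_mem_and_subset (X := Z i) (x := z) (U := f i ⁻¹ᵁ U) hz
    refine ⟨⟨⟨W, hW⟩, hWle⟩, ?_⟩
    show z ∈ Set.range hW.fromSpec
    rw [hW.range_fromSpec]
    exact hzW
  exact restrict_eq_zero_of_sepAt p g f a b c ha hb w hw hcov
    (H S₀ T hS₀ hT hTle R (p.appLE S₀ U hUle).hom C (sep_of_schDom f a w hw hcov h)) t ht hx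
    (hrange ▸ hxU) (by show _ ∈ Set.range hT.fromSpec; rw [hT.range_fromSpec]; exact hxT)

/-- EGA IV 11.10.6: over a field every base change works. -/
theorem schDom_bcFam_of_field {k : Type u} [Field k] {X S' : Scheme.{u}} (p : X ⟶ Spec (.of k)) (q : S' ⟶ Spec (.of k))
    {ι : Type u} {Z : ι → Scheme.{u}} (f : ∀ i, Z i ⟶ X) (h : SchDom f) : SchDom (bcFam p q f) := by
  refine schDom_bcFam_of_sep p q f h fun S₀ T hS₀ hT hTle R _ φ κ C _ _ hsep => ?_
  have : Nonempty S₀ ∨ IsEmpty S₀ := (isEmpty_or_nonempty _).symm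
  rcases this with hne | he
  · have htop : S₀ = ⊤ := by
      ext x
      refine ⟨fun _ => trivial, fun _ => ?_⟩
      obtain ⟨y, hy⟩ := hne
      rwa [Subsingleton.elim x y]
    subst htop
    let _ : Algebra Γ(Spec (.of k), ⊤) R := φ.toAlgebra
    have hfield : IsField Γ(Spec (.of k), ⊤) :=
      MulEquiv.isField (Field.toIsField k) (Scheme.ΓSpecIso (.of k)).commRingCatIsoToRingEquiv.toMulEquiv
    let _ : Field Γ(Spec (.of k), ⊤) := hfield.toField
    let _ : ∀ j, Algebra Γ(Spec (.of k), ⊤) (C j) := fun j => ((algebraMap R (C j)).comp φ).toAlgebra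
    have : ∀ j, IsScalarTower Γ(Spec (.of k), ⊤) R (C j) := fun j => .of_algebraMap_eq fun _ => rfl
    let _ : Algebra Γ(Spec (.of k), ⊤) Γ(S', T) := (q.appLE ⊤ T hTle).hom.toAlgebra
    exact sepAt_of_field hsep _
  · intro a z _
    have : Subsingleton Γ(S', T) := by
      rw [show T = ⊥ from le_bot_iff.1 fun y hy => (he.false ⟨q y, hTle hy⟩).elim]
      infer_instance
    let _ : Algebra Γ(Spec (.of k), S₀) R := φ.toAlgebra
    let _ : Algebra Γ(Spec (.of k), S₀) Γ(S', T) := (q.appLE S₀ T hTle).hom.toAlgebra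
    exact ⟨0, Subsingleton.elim _ _⟩

/-- EGA IV 11.10.5 (ii). -/
theorem schDom_pullback_snd_of_flat_lfp {X X' : Scheme.{u}} {ι : Type u} {Z : ι → Scheme.{u}} (f : ∀ i, Z i ⟶ X)
    (g : X' ⟶ X) [Flat g] [LocallyOfFinitePresentation g] (h : SchDom f) :
    SchDom (fun i => pullback.snd (f i) g) := by
  have hbc : SchDom (bcFam (𝟙 X) g f) := by
    refine schDom_bcFam_of_sep (𝟙 X) g f h fun S₀ T hS₀ hT hTle R _ φ κ C _ _ hsep => ?_
    let _ : Algebra Γ(X, S₀) R := φ.toAlgebra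
    let _ : Algebra Γ(X, S₀) Γ(X', T) := (g.appLE S₀ T hTle).hom.toAlgebra
    let _ : ∀ j, Algebra Γ(X, S₀) (C j) := fun j => ((algebraMap R (C j)).comp φ).toAlgebra
    have : ∀ j, IsScalarTower Γ(X, S₀) R (C j) := fun j => .of_algebraMap_eq fun _ => rfl
    have : Module.Flat Γ(X, S₀) Γ(X', T) :=
      RingHom.flat_algebraMap_iff.1 (Flat.flat_appLE g hS₀ hT hTle)
    have : Algebra.FinitePresentation Γ(X, S₀) Γ(X', T) :=
      RingHom.finitePresentation_algebraMap.1 (LocallyOfFinitePresentation.finitePresentation_appLE g hS₀ hT hTle)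
    exact sepAt_of_flat_fp hsep _
  intro V t ht
  let σ : pullback (𝟙 X) g ⟶ X' := pullback.snd _ _
  have : IsIso σ := inferInstance
  have hinj : Function.Injective (σ.app V) := (ConcreteCategory.bijective_of_isIso _).1
  apply hinj
  rw [map_zero]
  refine hbc _ _ fun i => ?_
  let τ : pullback (f i ≫ 𝟙 X) g ⟶ pullback (f i) g := pullback.lift (pullback.fst _ _) (pullback.snd _ _)
    (by simpa using pullback.condition (f := f i ≫ 𝟙 X) (g := g))
  have hτ : bcFam (𝟙 X) g f i ≫ σ = τ ≫ pullback.snd (f i) g := by simp [σ, τ, bcFam]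
  have key : ∀ (F G : pullback (f i ≫ 𝟙 X) g ⟶ X'), F = G → G.app V t = 0 → F.app V t = 0 := fun F G e h => by
    subst e; exact h
  rw [← app_app]
  exact key _ _ hτ (app_comp_eq_zero τ _ t (ht i))

end Groth.Agent.EGA43.Separating
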