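import Groth.Agent.EGA43.Separating.Basic
import Mathlib.RingTheory.Localization.BaseChange
import Mathlib.RingTheory.Filtration
import Mathlib.RingTheory.LocalRing.ResidueField.Ideal
import Mathlib.RingTheory.Localization.Module

/-!
# Fibrewise separating families of flat modules are separating (EGA IV 11.10.9)
-/

universe u v

set_option autoImplicit false
set_option backward.isDefEq.respectTransparency false

open TensorProduct Function

namespace Groth.Agent.EGA43.Separating

attribute [local instance] FlatDescent.bcModule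

/-- What dies in the fibre at `p` is divisible by `p` away from `p`. -/
theorem exists_smul_mem_of_residueField {A : Type u} [CommRing A] (p : Ideal A) [p.IsPrime] {X : Type u}
    [AddCommGroup X] [Module A X] (x : X) (hx : (1 : p.ResidueField) ⊗ₜ[A] x = 0) :
    ∃ s ∉ p, s • x ∈ p • (⊤ : Submodule A X) := by
  have h1 : TensorProduct.mk (A ⧸ p) p.ResidueField ((A ⧸ p) ⊗[A] X) 1 ((1 : A ⧸ p) ⊗ₜ[A] x) = 0 := by
    apply (AlgebraTensorModule.cancelBaseChange A (A ⧸ p) (A ⧸ p) p.ResidueField X).injective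
    rw [TensorProduct.mk_apply, AlgebraTensorModule.cancelBaseChange_tmul, map_zero, one_smul]
    exact hx
  obtain ⟨⟨s, hs⟩, hsx⟩ := (IsLocalizedModule.eq_zero_iff (nonZeroDivisors (A ⧸ p))
    (TensorProduct.mk (A ⧸ p) p.ResidueField ((A ⧸ p) ⊗[A] X) 1)).1 h1
  obtain ⟨s, rfl⟩ := Ideal.Quotient.mk_surjective s
  refine ⟨s, fun h => ?_, ?_⟩
  · exact nonZeroDivisors.ne_zero hs (Ideal.Quotient.eq_zero_iff_mem.2 h)
  · have h2 := congrArg (TensorProduct.quotTensorEquivQuotSMul X p) hsx
    rw [Submonoid.smul_def] at h2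
    rw [show (Ideal.Quotient.mk p s) • ((1 : A ⧸ p) ⊗ₜ[A] x) = Ideal.Quotient.mk p 1 ⊗ₜ[A] (s • x) by
      rw [TensorProduct.smul_tmul', TensorProduct.tmul_smul, TensorProduct.smul_tmul', smul_eq_mul, mul_one,
        map_one, Algebra.smul_def, mul_one]; rfl] at h2
    simp only [TensorProduct.quotTensorEquivQuotSMul_mk_tmul, one_smul, map_zero] at h2
    exact (Submodule.Quotient.mk_eq_zero _).1 h2

variable {A R : Type u} [CommRing A] [CommRing R] [Algebra A R] {ι : Type v}
  {M : Type u} [AddCommGroup M] [Module A M] [Module R M] [IsScalarTower A R M]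
  {N : ι → Type u} [∀ i, AddCommGroup (N i)] [∀ i, Module A (N i)] [∀ i, Module R (N i)]
  [∀ i, IsScalarTower A R (N i)] {u : ∀ i, M →ₗ[R] N i}

theorem step [∀ i, Module.Flat A (N i)] (q : Ideal R) [q.IsPrime] (p : Ideal A) [p.IsPrime]
    (hp : q.comap (algebraMap A R) = p) (hfib : SepAt A u p.ResidueField) (a : R) (ha : a ∉ q) (n : ℕ) (m : M)
    (hm : m ∈ p.map (algebraMap A R) ^ n • (⊤ : Submodule R M)) (hu : ∀ i, ∃ k : ℕ, a ^ k • u i m = 0) :
    ∃ t ∉ q, t • m ∈ p.map (algebraMap A R) ^ (n + 1) • (⊤ : Submodule R M) := by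
  classical
  let μ : ∀ (X : Type u) [AddCommGroup X] [Module A X], ↥(p ^ n) ⊗[A] X →ₗ[A] X := fun X _ _ =>
    (TensorProduct.lid A X).toLinearMap ∘ₗ (p ^ n : Ideal A).subtype.rTensor X
  let aX : ∀ (X : Type u) [AddCommGroup X] [Module A X] [Module R X] [IsScalarTower A R X], R → X →ₗ[A] X :=
    fun X _ _ _ _ t => (Algebra.lsmul A A X t : X →ₗ[A] X)
  have hμsmul : ∀ (X : Type u) [AddCommGroup X] [Module A X] [Module R X] [IsScalarTower A R X] (t : R)
      (w : ↥(p ^ n) ⊗[A] X), μ X ((aX X t).lTensor _ w) = t • μ X w := fun X _ _ _ _ t w => by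
    induction w using TensorProduct.induction_on with
    | zero => simp
    | add a b ha hb => simp only [map_add, smul_add, ha, hb]
    | tmul c x =>
      rw [LinearMap.lTensor_tmul]
      show (c : A) • (t • x) = t • ((c : A) • x)
      exact smul_comm _ _ _
  obtain ⟨w, rfl⟩ : ∃ w, μ M w = m := by
    rw [← Ideal.map_pow] at hm
    refine Submodule.smul_induction_on hm (fun r hr x _ => ?_) (fun x y ⟨v, hv⟩ ⟨w, hw⟩ => ⟨v + w, by rw [map_add, hv, hw]⟩)
    induction hr using Submodule.span_induction generalizing x with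
    | mem r hr =>
      obtain ⟨c, hc, rfl⟩ := hr
      exact ⟨⟨c, hc⟩ ⊗ₜ x, by simp [μ]⟩
    | zero => exact ⟨0, by simp⟩
    | add r r' _ _ hr hr' =>
      obtain ⟨v, hv⟩ := hr x trivial
      obtain ⟨v', hv'⟩ := hr' x trivial
      exact ⟨v + v', by rw [map_add, hv, hv', add_smul]⟩
    | smul s r _ hr =>
      obtain ⟨v, hv⟩ := hr (s • x) trivial
      exact ⟨v, by rw [hv, smul_eq_mul, mul_comm, mul_smul]⟩
  let K := p.ResidueField
  let b := Module.Basis.ofVectorSpace K (K ⊗[A] ↥(p ^ n))
  have hcoord : ∀ j, ∃ l : ℕ, ((1 : K) ⊗ₜ[A] a) ^ l • coord b M (1 ⊗ₜ w) j = 0 := fun j => by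
    refine hfib _ _ fun i => ?_
    obtain ⟨k, hk⟩ := hu i
    refine ⟨k, ?_⟩
    have hinj : Injective (μ (N i)) := (TensorProduct.lid A (N i)).injective.comp
      (Module.Flat.rTensor_preserves_injective_linearMap _ (Submodule.injective_subtype _))
    have hμu : ∀ w, μ (N i) (((u i).restrictScalars A).lTensor _ w) = u i (μ M w) := fun w => by
      induction w using TensorProduct.induction_on with
      | zero => simp
      | add a b ha hb => simp only [map_add, ha, hb]
      | tmul c x => simp [μ]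
    have h0 : (aX (N i) (a ^ k)).lTensor _ (((u i).restrictScalars A).lTensor (↥(p ^ n)) w) = 0 :=
      hinj (by rw [map_zero, hμsmul, hμu, hk])
    have h1 := congrArg (fun v => coord b (N i) ((1 : K) ⊗ₜ[A] v) j) h0
    simp only [tmul_zero, map_zero, Finsupp.coe_zero, Pi.zero_apply] at h1
    rw [← LinearMap.lTensor_tmul, coord_natural, ← LinearMap.lTensor_tmul, coord_natural] at h1
    rw [← h1, Algebra.TensorProduct.tmul_pow, one_pow]
    generalize coord b M (1 ⊗ₜ w) j = y
    induction y using TensorProduct.induction_on with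
    | zero => simp
    | add x y hx hy => rw [map_add, smul_add, hx, hy, map_add, map_add]
    | tmul c x =>
      rw [InjFibre.bcMap_tmul, FlatDescent.bc_smul_tmul, one_mul, LinearMap.lTensor_tmul, LinearMap.lTensor_tmul]
      rfl
  choose l hl using hcoord
  let L := (coord b M ((1 : K) ⊗ₜ w)).support.sup l
  have hzero : (1 : K) ⊗ₜ[A] (aX M (a ^ L)).lTensor (↥(p ^ n)) w = 0 := by
    apply (coord b M).injective
    rw [map_zero]
    ext j
    rw [← LinearMap.lTensor_tmul, coord_natural, Finsupp.coe_zero, Pi.zero_apply]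
    by_cases hj : j ∈ (coord b M ((1 : K) ⊗ₜ w)).support
    · obtain ⟨c, hc⟩ := Nat.exists_eq_add_of_le (Finset.le_sup hj : l j ≤ L)
      have hsm : ∀ y : K ⊗[A] M, (aX M (a ^ L)).lTensor K y = ((1 : K) ⊗ₜ[A] a) ^ L • y := fun y => by
        rw [Algebra.TensorProduct.tmul_pow, one_pow]
        induction y using TensorProduct.induction_on with
        | zero => simp
        | add x y hx hy => rw [map_add, smul_add, hx, hy]
        | tmul c x => rw [FlatDescent.bc_smul_tmul, one_mul, LinearMap.lTensor_tmul]; rfl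
      rw [hsm, show L = c + l j by omega, pow_add, mul_smul, hl j, smul_zero]
    · rw [Finsupp.notMem_support_iff.1 hj, map_zero]
  obtain ⟨s, hs, hsmem⟩ := exists_smul_mem_of_residueField p _ hzero
  refine ⟨algebraMap A R s * a ^ L, ?_, ?_⟩
  · exact ‹q.IsPrime›.mul_notMem (fun h => hs (hp ▸ h)) fun h => ha (‹q.IsPrime›.mem_of_pow_mem _ h)
  · rw [mul_smul, algebraMap_smul, ← hμsmul, ← map_smul]
    have : ∀ v ∈ p • (⊤ : Submodule A (↥(p ^ n) ⊗[A] M)), μ M v ∈ p.map (algebraMap A R) ^ (n + 1) • (⊤ : Submodule R M) := by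
      intro v hv
      refine Submodule.smul_induction_on hv (fun c hc x hx0 => ?_) (fun x y hx hy => by rw [map_add]; exact add_mem hx hy)
      clear hx0
      induction x using TensorProduct.induction_on with
      | zero => rw [smul_zero, map_zero]; exact zero_mem _
      | add x y hx hy => rw [smul_add, map_add]; exact add_mem hx hy
      | tmul d x =>
        rw [map_smul, show μ M (d ⊗ₜ x) = (d : A) • x by simp [μ], smul_smul, ← algebraMap_smul R (c * (d : A)), ← Ideal.map_pow, pow_succ']
        exact Submodule.smul_mem_smul (Ideal.mem_map_of_mem _ (Ideal.mul_mem_mul hc d.2)) Submodule.mem_top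
    exact this _ hsmem

/-- **EGA IV 11.10.9**, at a point: the hypothesis is only needed in the fibre through the point. -/
theorem exists_smul_eq_zero_of_fibre [IsNoetherianRing R] [Module.Finite R M] [∀ i, Module.Flat A (N i)]
    (q : Ideal R) [q.IsPrime] (hfib : SepAt A u (q.comap (algebraMap A R)).ResidueField)
    (a : R) (ha : a ∉ q) (m : M) (hm : ∀ i, ∃ n : ℕ, a ^ n • u i m = 0) : ∃ t ∉ q, t • m = 0 := by
  let p := q.comap (algebraMap A R)
  let J := p.map (algebraMap A R)
  have hJq : J ≤ q := Ideal.map_comap_le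
  have hall : ∀ n, ∃ t ∉ q, t • m ∈ J ^ n • (⊤ : Submodule R M) := fun n => by
    induction n with
    | zero => exact ⟨1, q.one_notMem, by simp⟩
    | succ n ih =>
      obtain ⟨t, ht, htm⟩ := ih
      obtain ⟨t', ht', ht'm⟩ := step q p rfl hfib a ha n _ htm fun i => (hm i).imp fun k hk => by
        rw [map_smul, smul_comm, hk, smul_zero]
      exact ⟨t' * t, ‹q.IsPrime›.mul_notMem ht' ht, by rwa [mul_smul]⟩
  let f := LocalizedModule.mkLinearMap q.primeCompl M
  let Rq := Localization.AtPrime q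
  have hmem : f m ∈ ⨅ n : ℕ, (J.map (algebraMap R Rq)) ^ n • (⊤ : Submodule Rq (LocalizedModule q.primeCompl M)) := by
    rw [Submodule.mem_iInf]
    intro n
    obtain ⟨t, ht, htm⟩ := hall n
    have hmem : ∀ y ∈ J ^ n • (⊤ : Submodule R M),
        f y ∈ (J.map (algebraMap R Rq)) ^ n • (⊤ : Submodule Rq (LocalizedModule q.primeCompl M)) := fun y hy => by
      refine Submodule.smul_induction_on hy (fun c hc x _ => ?_) (fun x y hx hy => by rw [map_add]; exact add_mem hx hy)
      rw [map_smul, ← algebraMap_smul Rq c, ← Ideal.map_pow]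
      exact Submodule.smul_mem_smul (Ideal.mem_map_of_mem _ hc) trivial
    have hu : IsUnit (algebraMap R Rq t) := IsLocalization.map_units Rq (⟨t, ht⟩ : q.primeCompl)
    have h1 := hmem _ htm
    rw [map_smul, ← algebraMap_smul Rq t] at h1
    exact (Submodule.smul_mem_iff_of_isUnit _ hu).1 h1
  have hle : J.map (algebraMap R Rq) ≠ ⊤ := fun h => (IsLocalRing.maximalIdeal.isMaximal Rq).ne_top
    (top_le_iff.1 (h ▸ (Ideal.map_mono hJq).trans (Localization.AtPrime.map_eq_maximalIdeal).le))
  rw [Ideal.iInf_pow_smul_eq_bot_of_isLocalRing _ hle, Submodule.mem_bot] at hmem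
  obtain ⟨⟨t, ht⟩, htm⟩ := (IsLocalizedModule.eq_zero_iff q.primeCompl f).1 hmem
  exact ⟨t, ht, htm⟩

/-- **EGA IV 11.10.9**: a family that is separating in every fibre is separating. -/
theorem sep_of_fibres [IsNoetherianRing R] [Module.Finite R M] [∀ i, Module.Flat A (N i)]
    (hfib : ∀ (p : Ideal A) [p.IsPrime], SepAt A u p.ResidueField) : Sep u := by
  intro a m hm
  let I : Ideal R := (LinearMap.toSpanSingleton R M m).ker
  by_contra hne
  push Not at hne
  have hna : a ∉ I.radical := fun ⟨n, hn⟩ => hne n (by simpa [I] using hn)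
  rw [Ideal.radical_eq_sInf] at hna
  simp only [Ideal.mem_sInf, not_forall] at hna
  obtain ⟨q, ⟨hIq, hq⟩, haq⟩ := hna
  obtain ⟨t, ht, htm⟩ := exists_smul_eq_zero_of_fibre q (hfib _) a haq m hm
  exact ht (hIq (by simpa [I] using htm))

end Groth.Agent.EGA43.Separating
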