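import Groth.Agent.EGA43.Separating.Univ
import Mathlib.RingTheory.Adjoin.FG

/-!
# Separation under flat base change, without finiteness on the source (EGA IV 11.9.10, 11.10.6)
-/

universe u v

set_option autoImplicit false
set_option backward.isDefEq.respectTransparency false

open TensorProduct Function

namespace Groth.Agent.EGA43.Separating

attribute [local instance] FlatDescent.bcModule

variable {k : Type u} [CommRing k] {R : Type u} [CommRing R] [Algebra k R] {ι : Type v}
  {M : Type u} [AddCommGroup M] [Module k M] [Module R M] [IsScalarTower k R M]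
  {N : ι → Type u} [∀ i, AddCommGroup (N i)] [∀ i, Module k (N i)] [∀ i, Module R (N i)]
  [∀ i, IsScalarTower k R (N i)] {u : ∀ i, M →ₗ[R] N i}

theorem exists_subalgebra_tensor (C : Type u) [CommRing C] [Algebra k C] (a : C ⊗[k] R) :
    ∃ R₀ : Subalgebra k R, R₀.FG ∧ ∃ a₀ : C ⊗[k] R₀, Algebra.TensorProduct.map (AlgHom.id k C) R₀.val a₀ = a := by
  classical
  obtain ⟨S, rfl⟩ := TensorProduct.exists_finset a
  refine ⟨Algebra.adjoin k ↑(S.image Prod.snd), ⟨_, rfl⟩,
    ∑ x ∈ S.attach, x.1.1 ⊗ₜ ⟨x.1.2, Algebra.subset_adjoin (Finset.mem_image_of_mem Prod.snd x.2)⟩, ?_⟩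
  rw [map_sum, ← Finset.sum_attach S]
  exact Finset.sum_congr rfl fun x _ => rfl

/-- Separation survives flat base change of finite type over a Noetherian base. -/
theorem sepAt_flat_finiteType [IsNoetherianRing k] {C : Type u} [CommRing C] [Algebra k C]
    [Algebra.FiniteType k C] [Module.Flat k C] (h : Sep u) : SepAt k u C := by
  intro a z hz
  obtain ⟨R₀, hR₀, a₀, rfl⟩ := exists_subalgebra_tensor C a
  have : Algebra.FiniteType k R₀ := R₀.fg_iff_finiteType.1 hR₀
  have : IsNoetherianRing R₀ := Algebra.FiniteType.isNoetherianRing k R₀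
  have h₀ : Sep (R := R₀) (M := M) (N := N) fun i => (u i).restrictScalars R₀ := fun a m hm =>
    h (a : R) m hm
  have hsmul : ∀ (X : Type u) [AddCommGroup X] [Module k X] [Module R X] [IsScalarTower k R X]
      (t : C ⊗[k] R₀) (x : C ⊗[k] X),
      Algebra.TensorProduct.map (AlgHom.id k C) R₀.val t • x = t • x := fun X _ _ _ _ t x => by
    induction x using TensorProduct.induction_on with
    | zero => simp
    | add x y hx hy => rw [smul_add, smul_add, hx, hy]
    | tmul d y =>
      induction t using TensorProduct.induction_on with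
      | zero =>
        rw [map_zero, zero_smul]
        exact (zero_smul (C ⊗[k] R₀) (d ⊗ₜ[k] y)).symm
      | add b b' hb hb' => rw [map_add, add_smul, add_smul, hb, hb']
      | tmul c r => rfl
  have hbc : ∀ i x, InjFibre.bcMap k C ((u i).restrictScalars R₀) x = InjFibre.bcMap k C (u i) x := fun i x => rfl
  obtain ⟨n, hn⟩ := sepAt_finiteType (k := k) (C := C) h₀ a₀ z fun i => by
    obtain ⟨n, hn⟩ := hz i
    refine ⟨n, ?_⟩
    rw [hbc, ← hsmul, map_pow]
    exact hn
  exact ⟨n, by rw [← map_pow, hsmul]; exact hn⟩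

/-- Over a field separation is universal. -/
theorem sepAt_of_field {k : Type u} [Field k] {R : Type u} [CommRing R] [Algebra k R] {ι : Type v}
    {M : Type u} [AddCommGroup M] [Module k M] [Module R M] [IsScalarTower k R M]
    {N : ι → Type u} [∀ i, AddCommGroup (N i)] [∀ i, Module k (N i)] [∀ i, Module R (N i)]
    [∀ i, IsScalarTower k R (N i)] {u : ∀ i, M →ₗ[R] N i} (h : Sep u) (C : Type u) [CommRing C] [Algebra k C] :
    SepAt k u C :=
  sepAt_of_fg fun S hS =>
    have : Algebra.FiniteType k S := S.fg_iff_finiteType.1 hS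
    sepAt_flat_finiteType h

end Groth.Agent.EGA43.Separating
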