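import Groth.Agent.EGA43.Separating.DominantBC
import Groth.Agent.Props12.KerReduced
import Mathlib.AlgebraicGeometry.IdealSheaf.Functorial

/-!
# EGA IV 11.10.7: the reduced image of geometrically reduced schemes commutes with field extensions
-/

universe u

set_option autoImplicit false
set_option backward.isDefEq.respectTransparency false

open AlgebraicGeometry CategoryTheory Limits TopologicalSpace

namespace Groth.Agent.EGA43.Separating

/-- A scheme receiving a schematically dominant family of reduced schemes is reduced. -/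
theorem isReduced_of_schDom {Y : Scheme.{u}} {ι : Type u} {Z : ι → Scheme.{u}} [∀ i, IsReduced (Z i)]
    {f : ∀ i, Z i ⟶ Y} (h : SchDom f) : IsReduced Y :=
  ⟨fun U => ⟨fun t ht => h U t fun i => (ht.map ((f i).app U).hom).eq_zero⟩⟩

theorem vanishingIdeal_closure_baseChange {X S' S : Scheme.{u}} (p : X ⟶ S) (q : S' ⟶ S) {ι : Type u}
    {Z : ι → Scheme.{u}} [∀ i, IsReduced (Z i)] (f : ∀ i, Z i ⟶ X)
    [∀ i, IsReduced (pullback (f i ≫ p) q)]
    (hdom : ∀ {X' : Scheme.{u}} (p' : X' ⟶ S) (g : ∀ i, Z i ⟶ X'), SchDom g → SchDom (bcFam p' q g))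
    (f' : ∀ i, pullback (f i ≫ p) q ⟶ pullback p q) (hf1 : ∀ i, f' i ≫ pullback.fst p q = pullback.fst _ _ ≫ f i)
    (hf2 : ∀ i, f' i ≫ pullback.snd p q = pullback.snd _ _) :
    Scheme.IdealSheafData.vanishingIdeal (TopologicalSpace.Closeds.closure (⋃ i, Set.range (f' i))) =
      (Scheme.IdealSheafData.vanishingIdeal (TopologicalSpace.Closeds.closure (⋃ i, Set.range (f i)))).comap
        (pullback.fst p q) := by
  let C := TopologicalSpace.Closeds.closure (⋃ i, Set.range (f i))
  let I := Scheme.IdealSheafData.vanishingIdeal C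
  let Y := I.subscheme
  let j := I.subschemeι
  have : IsReduced Y := Props12.isReduced_subscheme_vanishingIdeal C
  have hrange : Set.range j = (C : Set X) := by
    show Set.range I.subschemeι = _
    rw [Scheme.IdealSheafData.range_subschemeι]
    rfl
  have hfac : ∀ i, j.ker ≤ (f i).ker := fun i => by
    rw [Scheme.IdealSheafData.ker_subschemeι, Props12.ker_eq_vanishingIdeal (f i)]
    refine Scheme.IdealSheafData.vanishingIdeal_antimono ?_
    exact closure_mono (Set.subset_iUnion (fun i => Set.range (f i)) i)
  let g : ∀ i, Z i ⟶ Y := fun i => IsClosedImmersion.lift j (f i) (hfac i)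
  have hg : ∀ i, g i ≫ j = f i := fun i => IsClosedImmersion.lift_fac _ _ _
  have hgdom : SchDom g := schDom_of_dense (j.isClosedEmbedding.isInducing.dense_iff.2 fun y => by
    have h1 : j '' (⋃ i, Set.range (g i)) = ⋃ i, Set.range (f i) := by
      rw [Set.image_iUnion]
      exact Set.iUnion_congr fun i => by rw [← Set.range_comp, ← hg i]; rfl
    rw [h1]
    exact hrange.le ⟨y, rfl⟩)
  let Y' := pullback (j ≫ p) q
  let j' : Y' ⟶ pullback p q := pullback.map (j ≫ p) q p q j (𝟙 _) (𝟙 _) (by simp) (by simp)
  have hsq : IsPullback (pullback.fst (j ≫ p) q) j' j (pullback.fst p q) := by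
    refine IsPullback.of_bot ?_ (pullback.lift_fst _ _ _).symm (IsPullback.of_hasPullback p q)
    rw [pullback.lift_snd, Category.comp_id]
    exact IsPullback.of_hasPullback (j ≫ p) q
  have : IsClosedImmersion j' := MorphismProperty.of_isPullback (P := @IsClosedImmersion.{u}) hsq inferInstance
  let h : ∀ i, pullback (f i ≫ p) q ⟶ Y' := fun i =>
    pullback.lift (pullback.fst _ _ ≫ g i) (pullback.snd _ _) (by
      rw [Category.assoc, ← Category.assoc (g i), hg, pullback.condition])
  have hhdom : SchDom h := fun V t ht => hdom (j ≫ p) g hgdom V t fun i => by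
    have e : bcFam (j ≫ p) q g i = (pullback.congrHom (by rw [← Category.assoc, hg]) rfl).hom ≫ h i := by
      apply pullback.hom_ext <;> simp [h, bcFam]
    rw [e]
    exact app_comp_eq_zero _ _ t (ht i)
  have : IsReduced Y' := isReduced_of_schDom hhdom
  have hfh : ∀ i, h i ≫ j' = f' i := fun i => by
    apply pullback.hom_ext
    · rw [hf1]
      simp [h, j', hg]
    · rw [hf2]
      simp [h, j']
  have hker : (Scheme.IdealSheafData.vanishingIdeal C).comap (pullback.fst p q) = j'.ker := by
    rw [Scheme.IdealSheafData.comap, ← hsq.flip.isoPullback_hom_fst, Scheme.Hom.ker_comp_of_isIso]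
  show _ = (Scheme.IdealSheafData.vanishingIdeal C).comap _
  rw [hker, Props12.ker_eq_vanishingIdeal j']
  congr 1
  refine TopologicalSpace.Closeds.ext ?_
  show closure (⋃ i, Set.range (f' i)) = closure (Set.range j')
  refine le_antisymm (closure_mono (Set.iUnion_subset fun i => ?_)) (closure_minimal ?_ isClosed_closure)
  · rintro _ ⟨w, rfl⟩
    exact ⟨h i w, by rw [← hfh]; rfl⟩
  · rw [← Set.image_univ, ← hhdom.dense.closure_eq]
    refine (image_closure_subset_closure_image j'.continuous).trans (closure_mono ?_)
    rw [Set.image_iUnion]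
    refine Set.iUnion_mono fun i => ?_
    rw [← Set.range_comp, ← hfh]
    rfl

end Groth.Agent.EGA43.Separating
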