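import Groth.Agent.EGA43.Separating.Univ
import Groth.Agent.EGA43.Separating.General
import Mathlib.RingTheory.HopkinsLevitzki
import Mathlib.LinearAlgebra.TensorProduct.Pi
import Mathlib.RingTheory.IsTensorProduct

/-!
# Separating families of module maps: transfer lemmas (EGA IV 11.9)
-/

universe u v

set_option autoImplicit false
set_option backward.isDefEq.respectTransparency false

open TensorProduct Function

namespace Groth.Agent.EGA43.Separating

attribute [local instance] FlatDescent.bcModule

theorem Sep.eq_zero {R : Type u} [CommRing R] {ι : Type v} {M : Type u} [AddCommGroup M] [Module R M]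
    {N : ι → Type u} [∀ i, AddCommGroup (N i)] [∀ i, Module R (N i)] {u : ∀ i, M →ₗ[R] N i} (h : Sep u)
    {x : M} (hx : ∀ i, u i x = 0) : x = 0 := by
  obtain ⟨n, hn⟩ := h 1 x fun i => ⟨0, by rw [hx, smul_zero]⟩
  simpa using hn

section Flat

variable {R : Type u} [CommRing R] {ι : Type v} {M : Type u} [AddCommGroup M] [Module R M]
  {N : ι → Type u} [∀ i, AddCommGroup (N i)] [∀ i, Module R (N i)] (u : ∀ i, M →ₗ[R] N i)

theorem eq_zero_of_bcMap_eq_zero (B : Type u) [CommRing B] [Algebra R B] [Module.Flat R B] (s : Finset ι)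
    (M₀ : Submodule R M) (hker : ∀ x ∈ M₀, (∀ i ∈ s, u i x = 0) → x = 0) (w : B ⊗[R] M₀)
    (hw : ∀ i ∈ s, InjFibre.bcMap R B (u i) (InjFibre.bcMap R B M₀.subtype w) = 0) : w = 0 := by
  classical
  let g : M₀ →ₗ[R] ((i : s) → N i) := LinearMap.pi fun i => u i ∘ₗ M₀.subtype
  have hg : Injective g := (injective_iff_map_eq_zero g).2 fun x hx =>
    Subtype.ext (hker _ x.2 fun i hi => congrFun hx ⟨i, hi⟩)
  apply Module.Flat.lTensor_preserves_injective_linearMap (M := B) g hg
  rw [map_zero]
  apply (TensorProduct.piRight R R B fun i : s => N i).injective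
  rw [map_zero]
  funext i
  rw [Pi.zero_apply, ← hw i i.2]
  clear hw
  induction w using TensorProduct.induction_on with
  | zero => simp
  | add x y hx hy => rw [map_add, map_add, Pi.add_apply, hx, hy, map_add, map_add]
  | tmul b x => simp [g, InjFibre.bcMap_tmul]

variable {u}

theorem sepAt_of_finite_kernel (B : Type u) [CommRing B] [Algebra R B] [Module.Flat R B]
    (h : ∀ (M₀ : Submodule R M), M₀.FG → ∃ s : Finset ι, ∀ x ∈ M₀, (∀ i ∈ s, u i x = 0) → x = 0) :
    SepAt R u B := by
  classical
  intro a z hz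
  obtain ⟨S, rfl⟩ := TensorProduct.exists_finset z
  let M₀ := Submodule.span R (S.image Prod.snd : Set M)
  obtain ⟨s, hs⟩ := h M₀ ⟨_, rfl⟩
  let w : B ⊗[R] M₀ :=
    ∑ x ∈ S.attach, x.1.1 ⊗ₜ ⟨x.1.2, Submodule.subset_span (Finset.mem_image_of_mem Prod.snd x.2)⟩
  have hw : InjFibre.bcMap R B M₀.subtype w = ∑ x ∈ S, x.1 ⊗ₜ x.2 := by
    rw [map_sum, ← Finset.sum_attach S]
    exact Finset.sum_congr rfl fun x _ => rfl
  choose n hn using hz
  refine ⟨s.sup n, ?_⟩
  rw [← hw, ← map_smul, eq_zero_of_bcMap_eq_zero u B s M₀ hs (a ^ s.sup n • w) fun i hi => ?_, map_zero]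
  obtain ⟨c, hc⟩ := Nat.exists_eq_add_of_le (Finset.le_sup hi : n i ≤ s.sup n)
  rw [map_smul, hw, map_smul, hc, add_comm, pow_add, mul_smul, hn i, smul_zero]

/-- A finite separating family stays separating after flat base change. -/
theorem sepAt_of_flat_finite [Finite ι] (h : Sep u) (B : Type u) [CommRing B] [Algebra R B] [Module.Flat R B] :
    SepAt R u B :=
  sepAt_of_finite_kernel B fun _ _ =>
    ⟨(Set.finite_univ (α := ι)).toFinset, fun _ _ hx => h.eq_zero fun i => hx i (by simp)⟩

/-- Over an Artinian ring a separating family stays separating after flat base change. -/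
theorem sepAt_of_flat_artinian [IsArtinianRing R] (h : Sep u) (B : Type u) [CommRing B] [Algebra R B]
    [Module.Flat R B] : SepAt R u B :=
  sepAt_of_finite_kernel B fun M₀ hM₀ => by
    classical
    have : Module.Finite R M₀ := Module.Finite.iff_fg.2 hM₀
    let K : Finset ι → Submodule R M₀ := fun s => s.inf fun i => LinearMap.ker (u i ∘ₗ M₀.subtype)
    obtain ⟨_, ⟨s, rfl⟩, hmin⟩ := IsArtinian.set_has_minimal (Set.range K) ⟨_, ∅, rfl⟩
    refine ⟨s, fun x hx hs => h.eq_zero fun i => ?_⟩
    have hxs : (⟨x, hx⟩ : M₀) ∈ K s := Submodule.mem_finsetInf.2 fun j hj => hs j hj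
    by_contra hne
    refine hmin (K (insert i s)) ⟨_, rfl⟩ (lt_of_le_of_ne (Finset.inf_mono (Finset.subset_insert i s)) fun heq => hne ?_)
    rw [← heq] at hxs
    exact Submodule.mem_finsetInf.1 hxs i (Finset.mem_insert_self i s)

end Flat

section Transfer

variable {A R : Type u} [CommRing A] [CommRing R] [Algebra A R] {ι : Type v}
  {M : Type u} [AddCommGroup M] [Module A M] [Module R M] [IsScalarTower A R M]
  {N : ι → Type u} [∀ i, AddCommGroup (N i)] [∀ i, Module A (N i)] [∀ i, Module R (N i)]
  [∀ i, IsScalarTower A R (N i)] {u : ∀ i, M →ₗ[R] N i}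

/-- Separation of a base change, presented by a pushout square. -/
theorem sep_iff_sepAt {B R' : Type u} [CommRing B] [Algebra A B] [CommRing R']
    (φ : R →+* R') (ψ : B →+* R') (σ : B ⊗[A] R ≃+* R') (hσ : ∀ b r, σ (b ⊗ₜ r) = ψ b * φ r)
    {P : Type u} [AddCommGroup P] [Module R' P] {Q : ι → Type u} [∀ i, AddCommGroup (Q i)] [∀ i, Module R' (Q i)]
    (μ : M → P) (hμ : ∀ r m, μ (r • m) = φ r • μ m) (eM : B ⊗[A] M ≃+ P) (heM : ∀ b m, eM (b ⊗ₜ m) = ψ b • μ m)
    (ν : ∀ i, N i → Q i) (hν : ∀ i r m, ν i (r • m) = φ r • ν i m) (eN : ∀ i, B ⊗[A] N i ≃+ Q i)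
    (heN : ∀ i b m, eN i (b ⊗ₜ m) = ψ b • ν i m) (v : ∀ i, P →ₗ[R'] Q i) (hv : ∀ i m, v i (μ m) = ν i (u i m)) :
    Sep v ↔ SepAt A u B := by
  have key : ∀ {X X' : Type u} [AddCommGroup X] [Module A X] [Module R X] [IsScalarTower A R X] [AddCommGroup X']
      [Module R' X'] (μ : X → X') (_ : ∀ r m, μ (r • m) = φ r • μ m) (e : B ⊗[A] X ≃+ X')
      (_ : ∀ b m, e (b ⊗ₜ m) = ψ b • μ m) (t : B ⊗[A] R) (x : B ⊗[A] X), e (t • x) = σ t • e x := by
    intro X X' _ _ _ _ _ _ μ hμ e he t x
    induction x using TensorProduct.induction_on with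
    | zero => simp
    | add x y hx hy => rw [smul_add, map_add, map_add, smul_add, hx, hy]
    | tmul d m =>
      induction t using TensorProduct.induction_on with
      | zero => simp
      | add s t hs ht => rw [add_smul, map_add, map_add, add_smul, hs, ht]
      | tmul c r =>
        rw [FlatDescent.bc_smul_tmul, he, he, hσ, hμ, map_mul, smul_smul, smul_smul]
        congr 1
        ring
  have hM := key μ hμ eM heM
  have hN := fun i => key (ν i) (hν i) (eN i) (heN i)
  have hu : ∀ i x, eN i (InjFibre.bcMap A B (u i) x) = v i (eM x) := fun i x => by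
    induction x using TensorProduct.induction_on with
    | zero => simp
    | add x y hx hy => simp only [map_add, hx, hy]
    | tmul b m => rw [InjFibre.bcMap_tmul, heN, heM, map_smul, hv]
  constructor
  · refine fun h => h.of_equiv σ.symm eM.symm (fun r m => eM.injective ?_) (fun i => (eN i).symm)
      (fun i r m => (eN i).injective ?_) fun i m => (eN i).injective ?_
    · rw [hM, AddEquiv.apply_symm_apply, AddEquiv.apply_symm_apply, RingEquiv.apply_symm_apply]
    · rw [hN, AddEquiv.apply_symm_apply, AddEquiv.apply_symm_apply, RingEquiv.apply_symm_apply]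
    · rw [hu, AddEquiv.apply_symm_apply, AddEquiv.apply_symm_apply]
  · exact fun h => h.of_equiv σ eM hM eN hN hu

/-- Separation descends along maps that are injective on the source. -/
theorem sepAt_of_injective {B B' : Type u} [CommRing B] [Algebra A B] [CommRing B'] [Algebra A B'] (j : B →ₐ[A] B')
    (hj : Injective (j.toLinearMap.rTensor M)) (h : SepAt A u B') : SepAt A u B := by
  intro a z hz
  obtain ⟨n, hn⟩ := h (Algebra.TensorProduct.map j (AlgHom.id A R) a) (j.toLinearMap.rTensor M z) fun i => by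
    obtain ⟨n, hn⟩ := hz i
    refine ⟨n, ?_⟩
    rw [InjFibre.bcMap_rTensor, ← map_pow_smul, hn, map_zero]
  exact ⟨n, hj (by rw [map_pow_smul, hn, map_zero])⟩

/-- Separation descends along extensions of a field. -/
theorem sepAt_of_field_extension {k L : Type u} [Field k] [CommRing L] [Nontrivial L] [Algebra A k] [Algebra A L]
    (j : k →ₐ[A] L) (h : SepAt A u L) : SepAt A u k := by
  refine sepAt_of_injective j ?_ h
  let _ : Algebra k L := j.toRingHom.toAlgebra
  have : IsScalarTower A k L := .of_algebraMap_eq fun x => (j.commutes x).symm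
  obtain ⟨g, hg⟩ := (Algebra.linearMap k L).exists_leftInverse_of_injective
    (LinearMap.ker_eq_bot.2 (algebraMap k L).injective)
  refine LeftInverse.injective (g := (g.restrictScalars A).rTensor M) fun x => ?_
  rw [← LinearMap.rTensor_comp_apply,
    show (g.restrictScalars A) ∘ₗ j.toLinearMap = LinearMap.id from LinearMap.ext fun c => congr($hg c),
    LinearMap.rTensor_id, LinearMap.id_apply]

/-- The fibre at the kernel of a map to a field. -/
theorem sepAt_residueField_iff (p : Ideal A) [p.IsPrime] (L : Type u) [Field L] [Algebra A L]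
    (hp : p = RingHom.ker (algebraMap A L)) : SepAt A u L ↔ SepAt A u p.ResidueField := by
  let jh : p.ResidueField →+* L := Ideal.ResidueField.lift p (algebraMap A L) hp.le fun x hx =>
    isUnit_iff_ne_zero.2 fun h0 => hx (hp.ge h0)
  let j : p.ResidueField →ₐ[A] L :=
    { jh with commutes' := fun x => Ideal.ResidueField.lift_algebraMap p _ _ _ x }
  refine ⟨sepAt_of_field_extension j, fun h => ?_⟩
  let _ : Algebra p.ResidueField L := jh.toAlgebra
  have : IsScalarTower A p.ResidueField L := .of_algebraMap_eq fun x => (j.commutes x).symm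
  exact (sepAt_trans p.ResidueField L).1 (sepAt_of_field h L)

end Transfer

end Groth.Agent.EGA43.Separating
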