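import Groth.Agent.EGA43.Separating.ModResults

/-!
# Separation modulo a nilpotent ideal, and along limits of the base
-/

universe u v

set_option autoImplicit false
set_option backward.isDefEq.respectTransparency false

open TensorProduct Function

namespace Groth.Agent.EGA43.Separating

attribute [local instance] FlatDescent.bcModule

section Base

variable {A A₁ R : Type u} [CommRing A] [CommRing A₁] [CommRing R] [Algebra A A₁] [Algebra A R] [Algebra A₁ R]
  [IsScalarTower A A₁ R] {ι : Type v}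
  {M : Type u} [AddCommGroup M] [Module A M] [Module A₁ M] [Module R M] [IsScalarTower A R M]
  [IsScalarTower A₁ R M] [IsScalarTower A A₁ M]
  {N : ι → Type u} [∀ i, AddCommGroup (N i)] [∀ i, Module A (N i)] [∀ i, Module A₁ (N i)] [∀ i, Module R (N i)]
  [∀ i, IsScalarTower A R (N i)] [∀ i, IsScalarTower A₁ R (N i)] [∀ i, IsScalarTower A A₁ (N i)]
  {u : ∀ i, M →ₗ[R] N i}

/-- Replacing the base by an isomorphic ring. -/
theorem sepAt_of_surjective_base (hs : Surjective (algebraMap A A₁)) (B : Type u) [CommRing B] [Algebra A B]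
    [Algebra A₁ B] [IsScalarTower A A₁ B] (h : SepAt A₁ u B) : SepAt A u B := by
  have hc : ∀ (X : Type u) [AddCommGroup X] [Module A X] [Module A₁ X] [IsScalarTower A A₁ X],
      TensorProduct.CompatibleSMul A A₁ B X := fun X _ _ _ _ => ⟨fun r b x => by
    obtain ⟨r, rfl⟩ := hs r
    rw [algebraMap_smul, algebraMap_smul, TensorProduct.smul_tmul]⟩
  have := hc M
  have := hc R
  have := fun i => hc (N i)
  have key : ∀ (X : Type u) [AddCommGroup X] [Module A X] [Module A₁ X] [Module R X] [IsScalarTower A R X]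
      [IsScalarTower A₁ R X] [IsScalarTower A A₁ X] [TensorProduct.CompatibleSMul A A₁ B X]
      (t : B ⊗[A₁] R) (x : B ⊗[A₁] X),
      TensorProduct.equivOfCompatibleSMul A A₁ B B X (t • x) =
        Algebra.TensorProduct.equivOfCompatibleSMul A A₁ B B R t •
          TensorProduct.equivOfCompatibleSMul A A₁ B B X x := fun X _ _ _ _ _ _ _ _ t x => by
    induction x using TensorProduct.induction_on with
    | zero => simp
    | add x y hx hy => simp only [smul_add, map_add, hx, hy]
    | tmul d y =>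
      induction t using TensorProduct.induction_on with
      | zero => simp
      | add s t hs' ht => simp only [add_smul, map_add, hs', ht]
      | tmul c r =>
        rw [FlatDescent.bc_smul_tmul]
        exact (FlatDescent.bc_smul_tmul c d r y).symm
  refine h.of_equiv (Algebra.TensorProduct.equivOfCompatibleSMul A A₁ B B R).toRingEquiv
    (TensorProduct.equivOfCompatibleSMul A A₁ B B M).toAddEquiv (key M)
    (fun i => (TensorProduct.equivOfCompatibleSMul A A₁ B B (N i)).toAddEquiv) (fun i => key (N i)) fun i x => ?_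
  induction x using TensorProduct.induction_on with
  | zero => simp
  | add x y hx hy => simp only [map_add, hx, hy]
  | tmul b m =>
    rw [InjFibre.bcMap_tmul]
    exact (InjFibre.bcMap_tmul ..).symm

end Base

section Nilpotent

variable {A R : Type u} [CommRing A] [CommRing R] [Algebra A R] {ι : Type v}
  {M : Type u} [AddCommGroup M] [Module A M] [Module R M] [IsScalarTower A R M]
  {N : ι → Type u} [∀ i, AddCommGroup (N i)] [∀ i, Module A (N i)] [∀ i, Module R (N i)]
  [∀ i, IsScalarTower A R (N i)] {u : ∀ i, M →ₗ[R] N i}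

/-- EGA IV 11.9: separation modulo a nilpotent ideal with free graded pieces. -/
theorem sep_of_sepAt_quot (J : Ideal A) (hJ : IsNilpotent J)
    (hfree : ∀ k : ℕ, Module.Free (A ⧸ J) ((A ⧸ J) ⊗[A] ↥(J ^ k))) [∀ i, Module.Flat A (N i)]
    (h : SepAt A u (A ⧸ J)) : Sep u := by
  classical
  intro a m hm
  let la : ∀ (X : Type u) [AddCommGroup X] [Module A X] [Module R X] [IsScalarTower A R X], ℕ → X →ₗ[A] X :=
    fun X _ _ _ _ e => (LinearMap.lsmul R X (a ^ e)).restrictScalars A
  have hbc : ∀ (X : Type u) [AddCommGroup X] [Module A X] [Module R X] [IsScalarTower A R X] (e : ℕ)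
      (x : (A ⧸ J) ⊗[A] X), (la X e).lTensor (A ⧸ J) x = ((1 : A ⧸ J) ⊗ₜ[A] a) ^ e • x := fun X _ _ _ _ e x => by
    induction x using TensorProduct.induction_on with
    | zero => simp
    | add x y hx hy => rw [map_add, smul_add, hx, hy]
    | tmul c x =>
      rw [Algebra.TensorProduct.tmul_pow, one_pow, FlatDescent.bc_smul_tmul, one_mul, LinearMap.lTensor_tmul]
      rfl
  have main : ∀ k : ℕ, ∃ n : ℕ, a ^ n • m ∈ (J ^ k) • (⊤ : Submodule A M) := fun k => by
    induction k with
    | zero => exact ⟨0, by simp⟩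
    | succ k ih =>
      obtain ⟨n, hn⟩ := ih
      let μ : ∀ (X : Type u) [AddCommGroup X] [Module A X], ↥(J ^ k) ⊗[A] X →ₗ[A] X := fun X _ _ =>
        (TensorProduct.lid A X).toLinearMap ∘ₗ (J ^ k).subtype.rTensor X
      have hμ : ∀ (X Y : Type u) [AddCommGroup X] [Module A X] [AddCommGroup Y] [Module A Y] (g : X →ₗ[A] Y) w,
          μ Y (g.lTensor _ w) = g (μ X w) := fun X Y _ _ _ _ g w => by
        induction w using TensorProduct.induction_on with
        | zero => simp
        | add x y hx hy => simp only [map_add, hx, hy]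
        | tmul p x => simp [μ]
      obtain ⟨w, hw⟩ : ∃ w, μ M w = a ^ n • m :=
        Submodule.smul_induction_on hn (fun r hr x _ => ⟨⟨r, hr⟩ ⊗ₜ x, by simp [μ]⟩)
          fun x y ⟨v, hv⟩ ⟨w, hw⟩ => ⟨v + w, by rw [map_add, hv, hw]⟩
      have := hfree k
      let b := Module.Free.chooseBasis (A ⧸ J) ((A ⧸ J) ⊗[A] ↥(J ^ k))
      let c := coord b M ((1 : A ⧸ J) ⊗ₜ w)
      have hc : ∀ j, ∃ e : ℕ, ((1 : A ⧸ J) ⊗ₜ[A] a) ^ e • c j = 0 := fun j => h _ _ fun i => by
        obtain ⟨e, he⟩ := hm i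
        refine ⟨e, ?_⟩
        let g : M →ₗ[A] N i := la (N i) e ∘ₗ (u i).restrictScalars A
        have h1 : g.lTensor ↥(J ^ k) w = 0 := by
          have hinj : Injective (μ (N i)) := (TensorProduct.lid A (N i)).injective.comp
            (Module.Flat.rTensor_preserves_injective_linearMap (M := N i) _ Subtype.val_injective)
          apply hinj
          rw [map_zero, hμ, hw]
          show a ^ e • u i (a ^ n • m) = 0
          rw [map_smul, smul_comm, he, smul_zero]
        have h2 := coord_natural b g ((1 : A ⧸ J) ⊗ₜ w) j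
        rw [LinearMap.lTensor_tmul, h1, tmul_zero, map_zero, Finsupp.coe_zero, Pi.zero_apply] at h2
        rw [← hbc, h2]
        show _ = g.lTensor (A ⧸ J) (c j)
        generalize c j = y
        induction y using TensorProduct.induction_on with
        | zero => simp
        | add x y hx hy => rw [map_add, map_add, map_add, hx, hy]
        | tmul d x => rfl
      choose e he using hc
      let E := c.support.sup e
      have h3 : (1 : A ⧸ J) ⊗ₜ[A] (la M E).lTensor ↥(J ^ k) w = 0 := by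
        rw [← LinearMap.lTensor_tmul]
        apply (coord b M).injective
        rw [map_zero]
        ext j
        rw [Finsupp.coe_zero, Pi.zero_apply, coord_natural, hbc]
        by_cases hj : j ∈ c.support
        · obtain ⟨d, hd⟩ : ∃ d, E = e j + d := Nat.exists_eq_add_of_le (Finset.le_sup hj)
          rw [hd, add_comm, pow_add, mul_smul, he, smul_zero]
        · rw [Finsupp.notMem_support_iff.1 hj, smul_zero]
      refine ⟨E + n, ?_⟩
      have h4 := congrArg (TensorProduct.quotTensorEquivQuotSMul _ J) h3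
      rw [map_zero, TensorProduct.quotTensorEquivQuotSMul_mk_one_tmul, Submodule.Quotient.mk_eq_zero] at h4
      have h5 := Submodule.mem_map_of_mem (f := μ M) h4
      rw [Submodule.map_smul'', hμ, hw] at h5
      have hv : ∀ v, μ M v ∈ (J ^ k) • (⊤ : Submodule A M) := fun v => by
        induction v using TensorProduct.induction_on with
        | zero => simp
        | add x y hx hy => rw [map_add]; exact add_mem hx hy
        | tmul p x => exact Submodule.smul_mem_smul (N := (⊤ : Submodule A M)) p.2 trivial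
      have h6 : ∀ y ∈ J • Submodule.map (μ M) ⊤, y ∈ (J ^ (k + 1)) • (⊤ : Submodule A M) := fun y hy => by
        rw [pow_succ', Submodule.mul_smul]
        refine Submodule.smul_induction_on hy (fun r hr x hx => ?_) fun x y hx hy => add_mem hx hy
        obtain ⟨v, -, rfl⟩ := hx
        exact Submodule.smul_mem_smul hr (hv v)
      rw [pow_add a E n, mul_smul (a ^ E)]
      exact h6 _ h5
  obtain ⟨k, hk⟩ := hJ
  obtain ⟨n, hn⟩ := main k
  rw [hk] at hn
  exact ⟨n, by simpa using hn⟩

end Nilpotent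

open AlgebraicGeometry CategoryTheory Limits Opposite

theorem appLE_top_apply {Y Z : Scheme.{u}} (f : Y ⟶ Z) (e : (⊤ : Y.Opens) ≤ f ⁻¹ᵁ ⊤) (r : Γ(Z, ⊤)) :
    f.appLE ⊤ ⊤ e r = f.appTop r :=
  ConcreteCategory.congr_hom (Scheme.Hom.appLE_eq_app f) r

variable {X : Scheme.{u}} {F : X.Modules} [Coh.IsQCoh F] {ι : Type u} {G : ι → X.Modules}
  [∀ i, Coh.IsQCoh (G i)] {u : ∀ i, F ⟶ G i}

theorem sepSch_of_nilpotent (A : CommRingCat.{u}) (p : X ⟶ Spec A) (J : Ideal A) (hJ : IsNilpotent J)
    (hfree : ∀ k : ℕ, Module.Free (↑A ⧸ J) ((↑A ⧸ J) ⊗[↑A] ↥(J ^ k))) (hG : ∀ i, FlatMod.IsFlatOver p (G i))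
    (h : SepSch (pullFam u (pullback.fst p (Spec.map (CommRingCat.ofHom (Ideal.Quotient.mk J)))))) : SepSch u := by
  refine sepSch_of_sep _ fun x => ?_
  obtain ⟨U, hU, hxU, -⟩ := exists_isAffineOpen_mem_and_subset (X := X) (x := x) (U := ⊤) trivial
  refine ⟨U, hU, hxU, ?_⟩
  let q := Spec.map (CommRingCat.ofHom (Ideal.Quotient.mk J))
  have H := IsPullback.of_hasPullback p q
  have eU : U ≤ p ⁻¹ᵁ ⊤ := fun _ _ => trivial
  have eT : (⊤ : (Spec (CommRingCat.of (↑A ⧸ J))).Opens) ≤ q ⁻¹ᵁ ⊤ := fun _ _ => trivial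
  let B := Γ(Spec (CommRingCat.of (↑A ⧸ J)), ⊤)
  have hT := isAffineOpen_top (Spec A)
  let _ := (p.appLE ⊤ U eU).hom.toAlgebra
  let _ : Algebra Γ(Spec A, ⊤) B := (q.appLE ⊤ ⊤ eT).hom.toAlgebra
  let _ := EGA43.QcohFlat.overModule p F ⊤ U eU
  let _ := fun i => EGA43.QcohFlat.overModule p (G i) ⊤ U eU
  have : IsScalarTower Γ(Spec A, ⊤) Γ(X, U) Γ(F, U) := IsScalarTower.of_algebraMap_smul fun _ _ => rfl
  have : ∀ i, IsScalarTower Γ(Spec A, ⊤) Γ(X, U) Γ(G i, U) := fun _ => IsScalarTower.of_algebraMap_smul fun _ _ => rfl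
  have h1 : SepAt Γ(Spec A, ⊤) (secMap u U) B :=
    (sep_square_iff u H hT hU (isAffineOpen_top _) eU eT).1
      (sep_of_sepSch _ h (InjFibre.isAffineOpen_inf_preimage H hT hU (isAffineOpen_top _) eU eT))
  let e := (Scheme.ΓSpecIso A).inv.hom
  let _ : Algebra A Γ(Spec A, ⊤) := e.toAlgebra
  let _ : Algebra A Γ(X, U) := ((p.appLE ⊤ U eU).hom.comp e).toAlgebra
  let _ : Algebra A B := ((q.appLE ⊤ ⊤ eT).hom.comp e).toAlgebra
  have : IsScalarTower A Γ(Spec A, ⊤) Γ(X, U) := .of_algebraMap_eq fun _ => rfl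
  have : IsScalarTower A Γ(Spec A, ⊤) B := .of_algebraMap_eq fun _ => rfl
  let _ : Module A Γ(F, U) := Module.compHom Γ(F, U) ((p.appLE ⊤ U eU).hom.comp e)
  let _ := fun i => Module.compHom Γ(G i, U) ((p.appLE ⊤ U eU).hom.comp e)
  have : IsScalarTower A Γ(X, U) Γ(F, U) := IsScalarTower.of_algebraMap_smul fun _ _ => rfl
  have : IsScalarTower A Γ(Spec A, ⊤) Γ(F, U) := IsScalarTower.of_algebraMap_smul fun _ _ => rfl
  have : ∀ i, IsScalarTower A Γ(X, U) Γ(G i, U) := fun _ => IsScalarTower.of_algebraMap_smul fun _ _ => rfl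
  have : ∀ i, IsScalarTower A Γ(Spec A, ⊤) Γ(G i, U) := fun _ => IsScalarTower.of_algebraMap_smul fun _ _ => rfl
  have hbij : Bijective e := ConcreteCategory.bijective_of_isIso (Scheme.ΓSpecIso A).inv
  have : Module.Flat A Γ(Spec A, ⊤) :=
    Module.Flat.of_linearEquiv (LinearEquiv.ofBijective (Algebra.linearMap A Γ(Spec A, ⊤)) hbij).symm
  have : ∀ i, Module.Flat A Γ(G i, U) := fun i =>
    have : Module.Flat Γ(Spec A, ⊤) Γ(G i, U) := (Props12.flat_sections_iff p (G i) hT hU eU).2 fun y _ => hG i y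
    Module.Flat.trans A Γ(Spec A, ⊤) Γ(G i, U)
  have h2 : SepAt A (secMap u U) B := sepAt_of_surjective_base hbij.2 B h1
  let j : (↑A ⧸ J) →ₐ[A] B :=
    { (Scheme.ΓSpecIso (CommRingCat.of (↑A ⧸ J))).inv.hom with
      commutes' := fun r => by
        show (Scheme.ΓSpecIso (CommRingCat.of (↑A ⧸ J))).inv (Ideal.Quotient.mk J r) = (q.appLE ⊤ ⊤ eT) (e r)
        rw [appLE_top_apply]
        exact congrArg (fun ψ => ψ.hom r)
          (Scheme.ΓSpecIso_inv_naturality (CommRingCat.ofHom (Ideal.Quotient.mk J))) }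
  refine sep_of_sepAt_quot J hJ hfree (sepAt_of_injective j ?_ h2)
  exact ((LinearEquiv.ofBijective j.toLinearMap
    (ConcreteCategory.bijective_of_isIso (Scheme.ΓSpecIso (CommRingCat.of (↑A ⧸ J))).inv)).rTensor Γ(F, U)).injective

theorem sepSch_pullback_of_fg_subalgebras (A A' : CommRingCat.{u}) (φ : A ⟶ A') (p : X ⟶ Spec A)
    (hG : ∀ i, FlatMod.IsFlatOver p (G i))
    (hfg : ∀ (B : CommRingCat.{u}) (a : A ⟶ B) (b : B ⟶ A'), a ≫ b = φ → Injective b.hom → a.hom.FiniteType →
      SepSch (pullFam u (pullback.fst p (Spec.map a)))) :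
    SepSch (pullFam u (pullback.fst p (Spec.map φ))) := by
  refine sepSch_of_sep _ fun x => ?_
  obtain ⟨U, hU, hxU, -⟩ := exists_isAffineOpen_mem_and_subset (X := X) (x := pullback.fst p (Spec.map φ) x)
    (U := ⊤) trivial
  have H := IsPullback.of_hasPullback p (Spec.map φ)
  have hT := isAffineOpen_top (Spec A)
  have eU : U ≤ p ⁻¹ᵁ ⊤ := fun _ _ => trivial
  have eT : (⊤ : (Spec A').Opens) ≤ (Spec.map φ) ⁻¹ᵁ ⊤ := fun _ _ => trivial
  refine ⟨_, InjFibre.isAffineOpen_inf_preimage H hT hU (isAffineOpen_top _) eU eT, ⟨hxU, trivial⟩,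
    (sep_square_iff u H hT hU (isAffineOpen_top _) eU eT).2 ?_⟩
  let _ := (p.appLE ⊤ U eU).hom.toAlgebra
  let _ : Algebra Γ(Spec A, ⊤) Γ(Spec A', ⊤) := ((Spec.map φ).appLE ⊤ ⊤ eT).hom.toAlgebra
  let _ := EGA43.QcohFlat.overModule p F ⊤ U eU
  let _ := fun i => EGA43.QcohFlat.overModule p (G i) ⊤ U eU
  have : IsScalarTower Γ(Spec A, ⊤) Γ(X, U) Γ(F, U) := IsScalarTower.of_algebraMap_smul fun _ _ => rfl
  have : ∀ i, IsScalarTower Γ(Spec A, ⊤) Γ(X, U) Γ(G i, U) := fun _ => IsScalarTower.of_algebraMap_smul fun _ _ => rfl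
  have : ∀ i, Module.Flat Γ(Spec A, ⊤) Γ(G i, U) := fun i =>
    (Props12.flat_sections_iff p (G i) hT hU eU).2 fun y _ => hG i y
  refine sepAt_of_fg fun S hS => ?_
  have : Algebra.FiniteType Γ(Spec A, ⊤) S := S.fg_iff_finiteType.1 hS
  let B := CommRingCat.of S
  let a : A ⟶ B := (Scheme.ΓSpecIso A).inv ≫ CommRingCat.ofHom (algebraMap Γ(Spec A, ⊤) S)
  let b : B ⟶ A' := CommRingCat.ofHom S.val.toRingHom ≫ (Scheme.ΓSpecIso A').hom
  have hab : a ≫ b = φ := by
    have h1 : CommRingCat.ofHom (algebraMap Γ(Spec A, ⊤) S) ≫ CommRingCat.ofHom S.val.toRingHom =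
        (Spec.map φ).appTop := by
      ext r
      show ((Spec.map φ).appLE ⊤ ⊤ eT) r = _
      exact appLE_top_apply _ _ _
    simp only [a, b, Category.assoc]
    rw [← Category.assoc (CommRingCat.ofHom _), h1, ← Category.assoc, ← Scheme.ΓSpecIso_inv_naturality,
      Category.assoc, Iso.inv_hom_id, Category.comp_id]
  have hb : Injective b.hom :=
    (ConcreteCategory.bijective_of_isIso (Scheme.ΓSpecIso A').hom).1.comp Subtype.val_injective
  have ha : a.hom.FiniteType := by
    refine RingHom.FiniteType.comp (RingHom.finiteType_algebraMap.2 inferInstance) ?_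
    exact RingHom.FiniteType.of_surjective _ (ConcreteCategory.bijective_of_isIso (Scheme.ΓSpecIso A).inv).2
  have Hb := IsPullback.of_hasPullback p (Spec.map a)
  have eB : (⊤ : (Spec B).Opens) ≤ (Spec.map a) ⁻¹ᵁ ⊤ := fun _ _ => trivial
  let _ : Algebra Γ(Spec A, ⊤) Γ(Spec B, ⊤) := ((Spec.map a).appLE ⊤ ⊤ eB).hom.toAlgebra
  have h1 : SepAt Γ(Spec A, ⊤) (secMap u U) Γ(Spec B, ⊤) :=
    (sep_square_iff u Hb hT hU (isAffineOpen_top _) eU eB).1
      (sep_of_sepSch _ (hfg B a b hab hb ha) (InjFibre.isAffineOpen_inf_preimage Hb hT hU (isAffineOpen_top _) eU eB))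
  let j : S →ₐ[Γ(Spec A, ⊤)] Γ(Spec B, ⊤) :=
    { (Scheme.ΓSpecIso B).inv.hom with
      commutes' := fun r => by
        show (Scheme.ΓSpecIso B).inv (algebraMap Γ(Spec A, ⊤) S r) = ((Spec.map a).appLE ⊤ ⊤ eB) r
        rw [appLE_top_apply]
        have h2 := congrArg (fun ψ => ψ.hom ((Scheme.ΓSpecIso A).hom r)) (Scheme.ΓSpecIso_inv_naturality a)
        simp only [a, CommRingCat.comp_apply, CommRingCat.hom_comp, RingHom.comp_apply, Iso.hom_inv_id_apply] at h2
        exact h2 }
  refine sepAt_of_injective j ?_ h1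
  exact ((LinearEquiv.ofBijective j.toLinearMap
    (ConcreteCategory.bijective_of_isIso (Scheme.ΓSpecIso B).inv)).rTensor Γ(F, U)).injective

end Groth.Agent.EGA43.Separating
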