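import Groth.Agent.EGA43.Separating.ModScheme
import Groth.Agent.EGA43.Separating.FlatFP
import Groth.Agent.EGA43.FibDepth.Scheme
import Groth.Agent.Coherent.FiniteType
import Mathlib.AlgebraicGeometry.Artinian
import Mathlib.AlgebraicGeometry.Fiber
import Mathlib.AlgebraicGeometry.Morphisms.FinitePresentation
import Mathlib.LinearAlgebra.TensorProduct.Quotient

/-!
# EGA IV 11.9 and 11.10.9 for quasi-coherent modules
-/

universe u

set_option autoImplicit false
set_option backward.isDefEq.respectTransparency false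

open AlgebraicGeometry CategoryTheory Limits TopologicalSpace Opposite TensorProduct

namespace Groth.Agent.EGA43.Separating

attribute [local instance] FlatDescent.bcModule

theorem exists_notMem_smul_eq_zero {A B M : Type u} [CommRing A] [CommRing B] [Algebra A B] [AddCommGroup M]
    [Module A M] [Module.Flat A B] (q : Ideal A) (q' : Ideal B) [hq' : q'.IsPrime]
    (hqq' : q = q'.comap (algebraMap A B)) (m : M) (hm : (1 : B) ⊗ₜ[A] m = 0) : ∃ t ∉ q, t • m = 0 := by
  let l := LinearMap.toSpanSingleton A M m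
  let I : Ideal A := LinearMap.ker l
  by_contra! hne
  have hIq : I ≤ q := fun t ht => by_contra fun h => hne t h (by simpa [I, l] using ht)
  have hinj : Function.Injective (I.liftQ l le_rfl) :=
    LinearMap.ker_eq_bot.1 (Submodule.ker_liftQ_eq_bot' I l rfl)
  have h1 : (1 : B) ⊗ₜ[A] Ideal.Quotient.mk I 1 = 0 := by
    apply Module.Flat.lTensor_preserves_injective_linearMap (M := B) _ hinj
    rw [map_zero, LinearMap.lTensor_tmul, ← hm]
    exact congrArg ((1 : B) ⊗ₜ[A] ·) (one_smul A m)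
  have h2 := congrArg (TensorProduct.tensorQuotEquivQuotSMul B I) h1
  rw [map_zero, TensorProduct.tensorQuotEquivQuotSMul_tmul_mk, one_smul, Submodule.Quotient.mk_eq_zero] at h2
  refine hq'.ne_top ((Ideal.eq_top_iff_one _).2 ?_)
  refine Submodule.smul_induction_on h2 (fun r hr x _ => ?_) fun x y hx hy => q'.add_mem hx hy
  rw [Algebra.smul_def]
  exact q'.mul_mem_right x (by
    have := hIq hr
    rwa [hqq'] at this)

variable {X : Scheme.{u}} {F : X.Modules} [Coh.IsQCoh F] {ι : Type u} {G : ι → X.Modules}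
  [∀ i, Coh.IsQCoh (G i)] {u : ∀ i, F ⟶ G i}

/-- EGA IV 11.9.5: descent along faithfully flat morphisms. -/
theorem sepSch_of_faithfullyFlat {X' : Scheme.{u}} (g : X' ⟶ X) [Flat g] [Surjective g]
    (h : SepSch (pullFam u g)) : SepSch u := by
  refine sepSch_of_sep u fun x => ?_
  obtain ⟨U, hU, hxU, -⟩ := exists_isAffineOpen_mem_and_subset (X := X) (x := x) (U := ⊤) trivial
  refine ⟨U, hU, hxU, fun a m hm => ?_⟩
  by_contra hne
  push Not at hne
  let K : Ideal Γ(X, U) := LinearMap.ker (LinearMap.toSpanSingleton Γ(X, U) Γ(F, U) m)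
  obtain ⟨q, hq, hle, hdisj⟩ := Ideal.exists_le_prime_disjoint K (Submonoid.powers a) (Set.disjoint_left.2 <| by
    rintro _ hc ⟨n, rfl⟩
    exact hne n (by simpa [K] using hc))
  obtain ⟨x', hx'⟩ := g.surjective (hU.fromSpec ⟨q, hq⟩)
  have hxU' : g x' ∈ U := hx' ▸ hU.range_fromSpec.le ⟨_, rfl⟩
  obtain ⟨U', hU', hx'U', e⟩ := exists_isAffineOpen_mem_and_subset (X := X') (x := x') (U := g ⁻¹ᵁ U) hxU'
  let φ := (g.appLE U U' e).hom
  let _ := φ.toAlgebra
  have : Module.Flat Γ(X, U) Γ(X', U') := RingHom.flat_algebraMap_iff.1 (Flat.flat_appLE g hU hU' e)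
  obtain ⟨n, hn⟩ := (sep_pull_iff u g hU hU' e).1 (sep_of_sepSch _ h hU') ((1 : Γ(X', U')) ⊗ₜ a) (1 ⊗ₜ m) fun i => by
    obtain ⟨n, hn⟩ := hm i
    refine ⟨n, ?_⟩
    rw [InjFibre.bcMap_tmul, Algebra.TensorProduct.tmul_pow, one_pow, FlatDescent.bc_smul_tmul, one_mul, hn,
      tmul_zero]
  rw [Algebra.TensorProduct.tmul_pow, one_pow, FlatDescent.bc_smul_tmul, one_mul] at hn
  let q' := hU'.primeIdealOf ⟨x', hx'U'⟩
  have hqq : q = q'.asIdeal.comap φ := by
    have h1 := InjFibre.comap_primeIdealOf g hU hU' e hx'U'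
    have h2 : hU.primeIdealOf ⟨g x', e hx'U'⟩ = ⟨q, hq⟩ :=
      hU.fromSpec.isOpenEmbedding.injective ((hU.fromSpec_primeIdealOf _).trans hx')
    rw [h2] at h1
    exact (congrArg PrimeSpectrum.asIdeal h1).symm
  obtain ⟨t, ht, htm⟩ := exists_notMem_smul_eq_zero q q'.asIdeal hqq _ hn
  refine (hq.mul_notMem ht fun h => Set.disjoint_left.1 hdisj h ⟨n, rfl⟩) (hle ?_)
  simpa [K, mul_smul] using htm

/-- EGA IV 11.9.10: flat base change, finite presentation. -/
theorem sepSch_pullback_of_flat_lfp {X' : Scheme.{u}} (g : X' ⟶ X) [Flat g] [LocallyOfFinitePresentation g]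
    (h : SepSch u) : SepSch (pullFam u g) := by
  refine sepSch_of_sep _ fun x => ?_
  obtain ⟨U, hU, hxU, -⟩ := exists_isAffineOpen_mem_and_subset (X := X) (x := g x) (U := ⊤) trivial
  obtain ⟨U', hU', hxU', e⟩ := exists_isAffineOpen_mem_and_subset (X := X') (x := x) (U := g ⁻¹ᵁ U) hxU
  refine ⟨U', hU', hxU', (sep_pull_iff u g hU hU' e).2 ?_⟩
  let _ := (g.appLE U U' e).hom.toAlgebra
  have : Module.Flat Γ(X, U) Γ(X', U') := RingHom.flat_algebraMap_iff.1 (Flat.flat_appLE g hU hU' e)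
  have : Algebra.FinitePresentation Γ(X, U) Γ(X', U') :=
    RingHom.finitePresentation_algebraMap.1 (g.finitePresentation_appLE hU hU' e)
  exact sepAt_of_flat_fp (sep_of_sepSch u h hU) _

theorem sepSch_pullback_of_flat_finite [Finite ι] {X' : Scheme.{u}} (g : X' ⟶ X) [Flat g]
    (h : SepSch u) : SepSch (pullFam u g) := by
  refine sepSch_of_sep _ fun x => ?_
  obtain ⟨U, hU, hxU, -⟩ := exists_isAffineOpen_mem_and_subset (X := X) (x := g x) (U := ⊤) trivial
  obtain ⟨U', hU', hxU', e⟩ := exists_isAffineOpen_mem_and_subset (X := X') (x := x) (U := g ⁻¹ᵁ U) hxU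
  refine ⟨U', hU', hxU', (sep_pull_iff u g hU hU' e).2 ?_⟩
  let _ := (g.appLE U U' e).hom.toAlgebra
  have : Module.Flat Γ(X, U) Γ(X', U') := RingHom.flat_algebraMap_iff.1 (Flat.flat_appLE g hU hU' e)
  exact sepAt_of_flat_finite (sep_of_sepSch u h hU) _

theorem sepSch_pullback_of_flat_artinian [IsLocallyArtinian X] {X' : Scheme.{u}} (g : X' ⟶ X) [Flat g]
    (h : SepSch u) : SepSch (pullFam u g) := by
  refine sepSch_of_sep _ fun x => ?_
  obtain ⟨U, hU, hxU, -⟩ := exists_isAffineOpen_mem_and_subset (X := X) (x := g x) (U := ⊤) trivial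
  obtain ⟨U', hU', hxU', e⟩ := exists_isAffineOpen_mem_and_subset (X := X') (x := x) (U := g ⁻¹ᵁ U) hxU
  refine ⟨U', hU', hxU', (sep_pull_iff u g hU hU' e).2 ?_⟩
  let _ := (g.appLE U U' e).hom.toAlgebra
  have : Module.Flat Γ(X, U) Γ(X', U') := RingHom.flat_algebraMap_iff.1 (Flat.flat_appLE g hU hU' e)
  have : IsArtinianRing Γ(X, U) := IsLocallyArtinian.isArtinianRing_presheaf_obj ⟨U, hU⟩
  exact sepAt_of_flat_artinian (sep_of_sepSch u h hU) _

theorem sepAt_of_isField {A : Type u} [cA : CommRing A] (hA : IsField A) {R : Type u} [CommRing R] [aR : Algebra A R]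
    {ι : Type u} {M : Type u} [AddCommGroup M] [Module A M] [Module R M] [IsScalarTower A R M]
    {N : ι → Type u} [∀ i, AddCommGroup (N i)] [∀ i, Module A (N i)] [∀ i, Module R (N i)]
    [∀ i, IsScalarTower A R (N i)] {u : ∀ i, M →ₗ[R] N i} (h : Sep u) (B : Type u) [CommRing B] [Algebra A B] :
    SepAt A u B :=
  letI := hA.toField
  sepAt_of_field h B

/-- EGA IV 11.9.9: over a field separation is universal. -/
theorem sepSch_pullback_of_field {S S' : Scheme.{u}} [IsAffine S] (hS : IsField Γ(S, ⊤)) (p : X ⟶ S) (q : S' ⟶ S)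
    (h : SepSch u) : SepSch (pullFam u (pullback.fst p q)) := by
  refine sepSch_of_sep _ fun x => ?_
  obtain ⟨U, hU, hxU, -⟩ := exists_isAffineOpen_mem_and_subset (X := X) (x := pullback.fst p q x) (U := ⊤) trivial
  obtain ⟨T', hT', hxT', -⟩ := exists_isAffineOpen_mem_and_subset (X := S') (x := pullback.snd p q x) (U := ⊤) trivial
  have H := IsPullback.of_hasPullback p q
  have eU : U ≤ p ⁻¹ᵁ ⊤ := fun _ _ => trivial
  have eT : T' ≤ q ⁻¹ᵁ ⊤ := fun _ _ => trivial
  refine ⟨_, InjFibre.isAffineOpen_inf_preimage H (isAffineOpen_top S) hU hT' eU eT, ⟨hxU, hxT'⟩,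
    (sep_square_iff u H (isAffineOpen_top S) hU hT' eU eT).2 ?_⟩
  let _ := (p.appLE ⊤ U eU).hom.toAlgebra
  let _ := (q.appLE ⊤ T' eT).hom.toAlgebra
  let _ := EGA43.QcohFlat.overModule p F ⊤ U eU
  let _ := fun i => EGA43.QcohFlat.overModule p (G i) ⊤ U eU
  have : IsScalarTower Γ(S, ⊤) Γ(X, U) Γ(F, U) := IsScalarTower.of_algebraMap_smul fun _ _ => rfl
  have : ∀ i, IsScalarTower Γ(S, ⊤) Γ(X, U) Γ(G i, U) := fun _ => IsScalarTower.of_algebraMap_smul fun _ _ => rfl
  exact sepAt_of_isField hS (sep_of_sepSch u h hU) _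

/-- EGA IV 11.10.9: fibrewise separation is universal separation. -/
theorem sepSch_pullback_of_fibres [IsLocallyNoetherian X] {S : Scheme.{u}} (p : X ⟶ S) (hF : Coh.IsCoh F)
    (hG : ∀ i, FlatMod.IsFlatOver p (G i)) (h : ∀ s : S, SepSch (pullFam u (p.fiberι s)))
    {S' : Scheme.{u}} (g : S' ⟶ S) : SepSch (pullFam u (pullback.fst p g)) := by
  refine sepSch_of_sep _ fun x => ?_
  have hs : p (pullback.fst p g x) = g (pullback.snd p g x) := by
    rw [← Scheme.Hom.comp_apply, ← Scheme.Hom.comp_apply, pullback.condition]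
  obtain ⟨T, hT, hxT, -⟩ := exists_isAffineOpen_mem_and_subset (X := S) (x := p (pullback.fst p g x)) (U := ⊤) trivial
  obtain ⟨U, hU, hxU, eU⟩ := exists_isAffineOpen_mem_and_subset (X := X) (x := pullback.fst p g x) (U := p ⁻¹ᵁ T) hxT
  obtain ⟨T', hT', hxT', eT⟩ := exists_isAffineOpen_mem_and_subset (X := S') (x := pullback.snd p g x) (U := g ⁻¹ᵁ T)
    (show g (pullback.snd p g x) ∈ T from hs ▸ hxT)
  have H := IsPullback.of_hasPullback p g
  refine ⟨_, InjFibre.isAffineOpen_inf_preimage H hT hU hT' eU eT, ⟨hxU, hxT'⟩,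
    (sep_square_iff u H hT hU hT' eU eT).2 ?_⟩
  let _ := (p.appLE T U eU).hom.toAlgebra
  let _ := (g.appLE T T' eT).hom.toAlgebra
  let _ := EGA43.QcohFlat.overModule p F T U eU
  let _ := fun i => EGA43.QcohFlat.overModule p (G i) T U eU
  have : IsScalarTower Γ(S, T) Γ(X, U) Γ(F, U) := IsScalarTower.of_algebraMap_smul fun _ _ => rfl
  have : ∀ i, IsScalarTower Γ(S, T) Γ(X, U) Γ(G i, U) := fun _ => IsScalarTower.of_algebraMap_smul fun _ _ => rfl
  have : IsNoetherianRing Γ(X, U) := IsLocallyNoetherian.component_noetherian ⟨U, hU⟩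
  have : Module.Finite Γ(X, U) Γ(F, U) := ((Coherent.isCoh_iff_finite_sections F).1 hF).2 U hU
  have : ∀ i, Module.Flat Γ(S, T) Γ(G i, U) := fun i =>
    (Props12.flat_sections_iff p (G i) hT hU eU).2 fun y _ => hG i y
  refine sepAt_of_fibres (fun P hP => ?_) _
  let s := hT.fromSpec ⟨P, hP⟩
  have hsT : s ∈ T := hT.range_fromSpec.le ⟨_, rfl⟩
  let gs := S.fromSpecResidueField s
  have egs : (⊤ : (Spec (S.residueField s)).Opens) ≤ gs ⁻¹ᵁ T := fun y _ => by
    show gs y ∈ T
    rw [Scheme.fromSpecResidueField_apply]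
    exact hsT
  let L := Γ(Spec (S.residueField s), ⊤)
  have hL : IsField L := MulEquiv.isField (Field.toIsField (S.residueField s))
    (Scheme.ΓSpecIso (S.residueField s)).commRingCatIsoToRingEquiv.toMulEquiv
  let _ : Field L := hL.toField
  let _ := (gs.appLE T ⊤ egs).hom.toAlgebra
  have Hs : IsPullback (p.fiberι s) (p.fiberToSpecResidueField s) p gs := IsPullback.of_hasPullback p gs
  have hsep : SepAt Γ(S, T) (secMap u U) L :=
    (sep_square_iff u Hs hT hU (isAffineOpen_top _) eU egs).1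
      (sep_of_sepSch _ (h s) (InjFibre.isAffineOpen_inf_preimage Hs hT hU (isAffineOpen_top _) eU egs))
  refine (sepAt_residueField_iff P L ?_).1 hsep
  ext r
  rw [RingHom.mem_ker, RingHom.algebraMap_toAlgebra]
  have hmem : s ∈ S.basicOpen r ↔ r ∉ P := by
    rw [InjFibre.mem_basicOpen_iff_notMem hT hsT,
      show hT.primeIdealOf ⟨s, hsT⟩ = ⟨P, hP⟩ from
        hT.fromSpec.isOpenEmbedding.injective (hT.fromSpec_primeIdealOf _)]
  let pt : Spec (S.residueField s) := IsLocalRing.closedPoint (S.residueField s)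
  have hpt : gs pt = s := Scheme.fromSpecResidueField_apply s pt
  have hb := Scheme.basicOpen_appLE gs ⊤ T egs r
  constructor
  · intro hr
    by_contra hne
    have h1 : pt ∈ (Spec (S.residueField s)).basicOpen ((gs.appLE T ⊤ egs).hom r) := by
      rw [Scheme.basicOpen_of_isUnit _ (isUnit_iff_ne_zero.2 hne)]
      trivial
    erw [hb] at h1
    have h2 : gs pt ∈ S.basicOpen r := h1.2
    rw [hpt, hmem] at h2
    exact h2 hr
  · intro hr
    by_contra hne
    have h1 : pt ∈ (⊤ : (Spec (S.residueField s)).Opens) ⊓ gs ⁻¹ᵁ S.basicOpen r :=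
      ⟨trivial, show gs pt ∈ S.basicOpen r by rw [hpt, hmem]; exact hne⟩
    erw [← hb, hr, Scheme.basicOpen_zero] at h1
    exact h1

end Groth.Agent.EGA43.Separating
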