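import Groth.Agent.EGA43.Separating.ModBase
import Groth.Agent.EGA43.QcohFP
import Groth.Agent.EGA43.InjFibre.PullSections
import Groth.Agent.Props12.FlatOver
import Groth.Agent.RefHullLib.Coh

/-!
# Separating families of homomorphisms of quasi-coherent modules (EGA IV 11.9)
-/

universe u

set_option autoImplicit false
set_option backward.isDefEq.respectTransparency false

open AlgebraicGeometry CategoryTheory Limits TopologicalSpace Opposite TensorProduct
open Groth.Agent.Coherent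

namespace Groth.Agent.EGA43.Separating

attribute [local instance] FlatDescent.bcModule

variable {X : Scheme.{u}} {F : X.Modules} {ι : Type u} {G : ι → X.Modules} (u : ∀ i, F ⟶ G i)

/-- A family of homomorphisms is separating. -/
def SepSch : Prop :=
  ∀ (V : X.Opens) (t : ↑(F.presheaf.obj (op V))),
    (∀ i, (Scheme.Modules.Hom.mapPresheaf (u i)).app (op V) t = 0) → t = 0

/-- The maps on sections. -/
noncomputable def secMap (U : X.Opens) (i : ι) : Γ(F, U) →ₗ[Γ(X, U)] Γ(G i, U) where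
  toFun := (u i).app U
  map_add' := map_add _
  map_smul' r x := (u i).app_smul r x

@[simp]
theorem secMap_apply (U : X.Opens) (i : ι) (x : Γ(F, U)) : secMap u U i x = (u i).app U x := rfl

theorem app_resM {M N : X.Modules} (φ : M ⟶ N) {U V : X.Opens} (h : V ≤ U) (x : Γ(M, U)) :
    φ.app V (resM M h x) = resM N h (φ.app U x) :=
  ConcreteCategory.congr_hom (φ.mapPresheaf.naturality (homOfLE h).op) x

theorem isUnit_res {U : X.Opens} (a : Γ(X, U)) (n : ℕ) :
    IsUnit (X.presheaf.map (homOfLE (X.basicOpen_le a)).op (a ^ n)) := by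
  rw [map_pow]
  exact (RingedSpace.isUnit_res_basicOpen X.toLocallyRingedSpace.toRingedSpace a).pow n

theorem resM_eq_zero_of_pow_smul (M : X.Modules) {U : X.Opens} (a : Γ(X, U)) (x : Γ(M, U)) {n : ℕ}
    (h : a ^ n • x = 0) : resM M (X.basicOpen_le a) x = 0 := by
  have h1 := congrArg (resM M (X.basicOpen_le a)) h
  rw [resM_smul, map_zero] at h1
  exact (isUnit_res a n).smul_eq_zero.1 h1

variable [Coh.IsQCoh F] [∀ i, Coh.IsQCoh (G i)]

/-- A separating family separates on affine opens. -/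
theorem sep_of_sepSch (h : SepSch u) {U : X.Opens} (hU : IsAffineOpen U) : Sep (secMap u U) := by
  intro a m hm
  refine qcoh_exists_pow_smul_eq_zero hU F a m (h _ _ fun i => ?_)
  obtain ⟨n, hn⟩ := hm i
  exact (app_resM (u i) (X.basicOpen_le a) m).trans (resM_eq_zero_of_pow_smul (G i) a _ hn)

omit [∀ i, Coh.IsQCoh (G i)] in
/-- Separation on an affine cover gives separation. -/
theorem sepSch_of_sep [∀ i, Coh.IsQCoh (G i)]
    (h : ∀ x : X, ∃ U : X.Opens, IsAffineOpen U ∧ x ∈ U ∧ Sep (secMap u U)) : SepSch u := by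
  intro V t ht
  refine Groth.Agent.RefHullLib.section_eq_zero_of_germ t fun x hx => ?_
  obtain ⟨U, hU, hxU, hsep⟩ := h x
  obtain ⟨a, haV, hxa⟩ := hU.exists_basicOpen_le ⟨x, hx⟩ hxU
  have hs : resM F haV t = 0 := by
    obtain ⟨n, m, hm⟩ := qcoh_exists_pow_smul hU F a (resM F haV t)
    obtain ⟨k, hk⟩ := hsep a m fun i => by
      refine qcoh_exists_pow_smul_eq_zero hU (G i) a _ ?_
      rw [secMap_apply, ← app_resM, hm, Scheme.Modules.Hom.app_smul, app_resM]
      rw [show (u i).app V t = 0 from ht i, map_zero, smul_zero]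
    have h0 := resM_eq_zero_of_pow_smul F a m hk
    rw [hm] at h0
    exact (isUnit_res a n).smul_eq_zero.1 h0
  rw [← TopCat.Presheaf.germ_res_apply F.presheaf (homOfLE haV) x hxa]
  exact (congrArg _ hs).trans (map_zero _)

section Pullback

variable {X' : Scheme.{u}} (f : X' ⟶ X)

/-- The pulled back family. -/
noncomputable abbrev pullFam (i : ι) : (Scheme.Modules.pullback f).obj F ⟶ (Scheme.Modules.pullback f).obj (G i) :=
  (Scheme.Modules.pullback f).map (u i)

instance (i : ι) : Coh.IsQCoh ((Scheme.Modules.pullback f).obj (G i)) := InjFibre.isQCoh_pullback f (G i)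

instance : Coh.IsQCoh ((Scheme.Modules.pullback f).obj F) := InjFibre.isQCoh_pullback f F

variable {U : X.Opens} (hU : IsAffineOpen U) {U' : X'.Opens} (hU' : IsAffineOpen U') (e : U' ≤ f ⁻¹ᵁ U)

include hU hU' in
/-- Sections of pullbacks: base change to an affine open of the source. -/
theorem sep_pull_iff :
    letI := (f.appLE U U' e).hom.toAlgebra
    Sep (secMap (pullFam u f) U') ↔ SepAt Γ(X, U) (secMap u U) Γ(X', U') := by
  let φ := (f.appLE U U' e).hom
  let _ := φ.toAlgebra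
  have main : ∀ (M : X.Modules) [Coh.IsQCoh M], ∃ eM : Γ(X', U') ⊗[Γ(X, U)] Γ(M, U) ≃+
      Γ((Scheme.Modules.pullback f).obj M, U'),
      (∀ b m, eM (b ⊗ₜ m) = b • InjFibre.pullMap f hU hU' e M m) ∧
      ∀ r m, InjFibre.pullMap f hU hU' e M (r • m) = φ r • InjFibre.pullMap f hU hU' e M m := by
    intro M _
    let _ := Module.compHom Γ((Scheme.Modules.pullback f).obj M, U') φ
    have : IsScalarTower Γ(X, U) Γ(X', U') Γ((Scheme.Modules.pullback f).obj M, U') :=
      IsScalarTower.of_algebraMap_smul fun _ _ => rfl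
    obtain ⟨μ, hμ, hμe⟩ := InjFibre.pullMap_isBaseChange f hU hU' e M
    refine ⟨hμ.equiv.toAddEquiv, fun b m => ?_, fun r m => ?_⟩
    · show hμ.equiv (b ⊗ₜ m) = _
      rw [hμ.equiv_tmul, hμe]
    · rw [← hμe, ← hμe, map_smul]
      rfl
  obtain ⟨eM, heM, hμ⟩ := main F
  choose eN heN hν using fun i => main (G i)
  exact sep_iff_sepAt φ (RingHom.id _) (Algebra.TensorProduct.rid Γ(X, U) Γ(X, U) Γ(X', U')).toRingEquiv
    (fun b r => by
      show Algebra.TensorProduct.rid Γ(X, U) Γ(X, U) Γ(X', U') (b ⊗ₜ r) = b * φ r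
      rw [Algebra.TensorProduct.rid_tmul, Algebra.smul_def, mul_comm]
      rfl)
    (InjFibre.pullMap f hU hU' e F) hμ eM heM (fun i => InjFibre.pullMap f hU hU' e (G i)) hν eN heN
    (secMap (pullFam u f) U') fun i m => InjFibre.pullMap_natural f hU hU' e (u i) m

end Pullback

section Square

variable {X' S S' : Scheme.{u}} {fst : X' ⟶ X} {snd : X' ⟶ S'} {p : X ⟶ S} {g : S' ⟶ S}
  (H : IsPullback fst snd p g) {T : S.Opens} (hT : IsAffineOpen T) {U : X.Opens} (hU : IsAffineOpen U)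
  {T' : S'.Opens} (hT' : IsAffineOpen T') (eU : U ≤ p ⁻¹ᵁ T) (eT' : T' ≤ g ⁻¹ᵁ T)

include H hT hU hT' in
/-- Sections of pullbacks along a base change of the base. -/
theorem sep_square_iff :
    letI := (p.appLE T U eU).hom.toAlgebra
    letI := (g.appLE T T' eT').hom.toAlgebra
    letI := EGA43.QcohFlat.overModule p F T U eU
    letI := fun i => EGA43.QcohFlat.overModule p (G i) T U eU
    haveI : IsScalarTower Γ(S, T) Γ(X, U) Γ(F, U) := IsScalarTower.of_algebraMap_smul fun _ _ => rfl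
    haveI : ∀ i, IsScalarTower Γ(S, T) Γ(X, U) Γ(G i, U) := fun _ => IsScalarTower.of_algebraMap_smul fun _ _ => rfl
    Sep (secMap (pullFam u fst) (fst ⁻¹ᵁ U ⊓ snd ⁻¹ᵁ T')) ↔ SepAt Γ(S, T) (secMap u U) Γ(S', T') := by
  have hWa := InjFibre.isAffineOpen_inf_preimage H hT hU hT' eU eT'
  let W := fst ⁻¹ᵁ U ⊓ snd ⁻¹ᵁ T'
  have eW : W ≤ fst ⁻¹ᵁ U := inf_le_left
  have eW' : W ≤ snd ⁻¹ᵁ T' := inf_le_right
  have hp := (isIso_pushoutSection_iff H eT' eU rfl).1
    (isIso_pushoutSection_of_isAffineOpen H eT' eU rfl hT hT' hU)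
  let _ := (p.appLE T U eU).hom.toAlgebra
  let _ := (g.appLE T T' eT').hom.toAlgebra
  let φ := (fst.appLE U W eW).hom
  let ψ := (snd.appLE T' W eW').hom
  let _ := φ.toAlgebra
  let _ := ψ.toAlgebra
  let _ : Algebra Γ(S, T) Γ(X', W) := (φ.comp (p.appLE T U eU).hom).toAlgebra
  have : IsScalarTower Γ(S, T) Γ(X, U) Γ(X', W) := .of_algebraMap_eq fun _ => rfl
  have : IsScalarTower Γ(S, T) Γ(S', T') Γ(X', W) :=
    .of_algebraMap_eq fun r => ConcreteCategory.congr_hom hp.w r
  have : Algebra.IsPushout Γ(S, T) Γ(X, U) Γ(S', T') Γ(X', W) := CommRingCat.isPushout_iff_isPushout.1 hp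
  have : Algebra.IsPushout Γ(S, T) Γ(S', T') Γ(X, U) Γ(X', W) := Algebra.IsPushout.symm inferInstance
  let _ := EGA43.QcohFlat.overModule p F T U eU
  let _ := fun i => EGA43.QcohFlat.overModule p (G i) T U eU
  have : IsScalarTower Γ(S, T) Γ(X, U) Γ(F, U) := IsScalarTower.of_algebraMap_smul fun _ _ => rfl
  have : ∀ i, IsScalarTower Γ(S, T) Γ(X, U) Γ(G i, U) := fun _ => IsScalarTower.of_algebraMap_smul fun _ _ => rfl
  have main : ∀ (M : X.Modules) [Coh.IsQCoh M],
      letI := EGA43.QcohFlat.overModule p M T U eU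
      ∃ eM : Γ(S', T') ⊗[Γ(S, T)] Γ(M, U) ≃+ Γ((Scheme.Modules.pullback fst).obj M, W),
        (∀ b m, eM (b ⊗ₜ m) = ψ b • InjFibre.pullMap fst hU hWa eW M m) ∧
        ∀ r m, InjFibre.pullMap fst hU hWa eW M (r • m) = φ r • InjFibre.pullMap fst hU hWa eW M m := by
    intro M _
    let P := (Scheme.Modules.pullback fst).obj M
    let _ := EGA43.QcohFlat.overModule p M T U eU
    have : IsScalarTower Γ(S, T) Γ(X, U) Γ(M, U) := IsScalarTower.of_algebraMap_smul fun _ _ => rfl
    let _ : Module Γ(X, U) Γ(P, W) := Module.compHom Γ(P, W) φ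
    let _ : Module Γ(S', T') Γ(P, W) := Module.compHom Γ(P, W) ψ
    let _ : Module Γ(S, T) Γ(P, W) := Module.compHom Γ(P, W) (φ.comp (p.appLE T U eU).hom)
    have : IsScalarTower Γ(X, U) Γ(X', W) Γ(P, W) := IsScalarTower.of_algebraMap_smul fun _ _ => rfl
    have : IsScalarTower Γ(S', T') Γ(X', W) Γ(P, W) := IsScalarTower.of_algebraMap_smul fun _ _ => rfl
    have : IsScalarTower Γ(S, T) Γ(X, U) Γ(P, W) := IsScalarTower.of_algebraMap_smul fun _ _ => rfl
    have : IsScalarTower Γ(S, T) Γ(X', W) Γ(P, W) := IsScalarTower.of_algebraMap_smul fun _ _ => rfl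
    have : IsScalarTower Γ(S, T) Γ(S', T') Γ(P, W) := IsScalarTower.of_algebraMap_smul fun r m => by
      show ψ ((g.appLE T T' eT').hom r) • m = _
      exact congrArg (· • m) (ConcreteCategory.congr_hom hp.w r).symm
    obtain ⟨μ, hμ, hμe⟩ := InjFibre.pullMap_isBaseChange fst hU hWa eW M
    have h2 : IsBaseChange Γ(S', T') (μ.restrictScalars Γ(S, T)) :=
      (Cons.isBaseChange_iff_of_isPushout (R := Γ(S, T)) (T := Γ(S', T')) (R' := Γ(X, U))
        (T' := Γ(X', W)) μ).1 hμ
    refine ⟨h2.equiv.toAddEquiv, fun b m => ?_, fun r m => ?_⟩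
    · show h2.equiv (b ⊗ₜ m) = _
      rw [h2.equiv_tmul, LinearMap.restrictScalars_apply, hμe]
      rfl
    · rw [← hμe, ← hμe, map_smul]
      rfl
  obtain ⟨eM, heM, hμ⟩ := main F
  choose eN heN hν using fun i => main (G i)
  exact sep_iff_sepAt φ ψ (Algebra.IsPushout.equiv Γ(S, T) Γ(S', T') Γ(X, U) Γ(X', W)).toRingEquiv
    (fun b r => Algebra.IsPushout.equiv_tmul _ _ _ _ b r)
    (InjFibre.pullMap fst hU hWa eW F) hμ eM heM (fun i => InjFibre.pullMap fst hU hWa eW (G i)) hν eN heN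
    (secMap (pullFam u fst) W) fun i m => InjFibre.pullMap_natural fst hU hWa eW (u i) m

end Square

end Groth.Agent.EGA43.Separating
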